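import Cfsg.Agent.H612.MinNormal
import Cfsg.Agent.H612.Heredity
import Mathlib.GroupTheory.Solvable

/-!
# S4554 (at most three real character degrees): the property of almost simple groups (helper619)

* `RD G N d` : `d` is the degree of a real irreducible character of `G` which is not trivial on `N`;
* `R3 G N` : three different such degrees;
* `Row S` : `R3 G N` for all finite groups `G` with a normal subgroup `N ≅ S`, `C_G(N) = 1`, `G / N` solvable;
* `Row.congr` : invariance under isomorphism.
-/

set_option autoImplicit false

namespace Cfsg.Agent.H619.R4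

open Cfsg Cfsg.Agent.Characters Cfsg.Agent.Blocks Cfsg.Agent.H686.CharKit

universe u

/-- `d` is the degree of a real irreducible character of `G` which is not trivial on `N` -/
def RD (G : Type u) [Group G] (N : Subgroup G) (d : ℕ) : Prop :=
  ∃ χ : IrrCharacter G, (∀ g : G, ((χ : G → ℂ) g).im = 0) ∧
    (∃ n ∈ N, (χ : G → ℂ) n ≠ (χ : G → ℂ) 1) ∧ charDegree (χ : G → ℂ) = d

/-- three different degrees of real irreducible characters of `G` which are not trivial on `N` -/
def R3 (G : Type u) [Group G] (N : Subgroup G) : Prop :=
  ∃ a b c : ℕ, a ≠ b ∧ a ≠ c ∧ b ≠ c ∧ RD G N a ∧ RD G N b ∧ RD G N c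

/-- **The property wanted for every nonabelian finite simple group `S`.** -/
def Row (S : Type u) [Group S] : Prop :=
  ∀ (G : Type u) [Group G] [Finite G] (N : Subgroup G) [N.Normal], Nonempty (S ≃* N) →
    Subgroup.centralizer (N : Set G) = ⊥ → Group.IsSolvable (G ⧸ N) → R3 G N

theorem Row.congr {S S' : Type u} [Group S] [Group S'] (e : S ≃* S') (h : Row S) : Row S' :=
  fun G _ _ N _ f hC hs => h G N (f.map fun f => e.trans f) hC hs

end Cfsg.Agent.H619.R4
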