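import Cfsg.Agent.H619.R4.RankReal

/-!
# The degrees of the rank 3 actions of the sporadic groups (S4554, helper619)
-/

set_option autoImplicit false

open Cfsg

namespace Cfsg.Agent.H619.R4

open Cfsg.Agent.H690.Spor

universe u v

variable {G : Type u} [Group G] [Finite G] {X : Type v} [MulAction G X] {R : X → X → Prop}

theorem rc_j2 (h : RankThree.R3 G X R 36 63) : RC G 36 ∧ RC G 63 :=
  real_pair (d := 7) h (Or.inl (by decide)) (by norm_num) (by norm_num) (by norm_num) (by decide +kernel)

theorem rc_hs (h : RankThree.R3 G X R 22 77) : RC G 22 ∧ RC G 77 :=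
  real_pair (d := 7) h (Or.inl (by decide)) (by norm_num) (by norm_num) (by norm_num) (by decide +kernel)

theorem rc_mcl (h : RankThree.R3 G X R 112 162) (hd : ¬ 137 ∣ Nat.card G) : RC G 22 ∧ RC G 252 :=
  real_pair (d := 9) h (Or.inr hd) (by norm_num) (by norm_num) (by norm_num) (by decide +kernel)

theorem rc_suz (h : RankThree.R3 G X R 416 1365) : RC G 780 ∧ RC G 1001 :=
  real_pair (d := 11) h (Or.inl (by decide)) (by norm_num) (by norm_num) (by norm_num) (by decide +kernel)

theorem rc_ru (h : RankThree.R3 G X R 1755 2304) : RC G 783 ∧ RC G 3276 :=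
  real_pair (d := 12) h (Or.inl (by decide)) (by norm_num) (by norm_num) (by norm_num) (by decide +kernel)

theorem rc_co2 (h : RankThree.R3 G X R 891 1408) : RC G 275 ∧ RC G 2024 :=
  real_pair (d := 12) h (Or.inl (by decide)) (by norm_num) (by norm_num) (by norm_num) (by decide +kernel)

theorem rc_fi22 (h : RankThree.R3 G X R 693 2816) : RC G 429 ∧ RC G 3080 :=
  real_pair (d := 12) h (Or.inl (by decide)) (by norm_num) (by norm_num) (by norm_num) (by decide +kernel)

theorem rc_fi23 (h : RankThree.R3 G X R 3510 28160) (hd : ¬ 15835 ∣ Nat.card G) : RC G 782 ∧ RC G 30888 :=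
  real_pair (d := 15) h (Or.inr hd) (by norm_num) (by norm_num) (by norm_num) (by decide +kernel)

theorem sp29_rng_of {f : ℕ → Bool} : ∀ {d s : ℕ}, (∀ i, s ≤ i → i < s + 2 ^ d → f i = true) → rng f d s = true
  | 0, s, h => h s le_rfl (by rw [pow_zero]; exact Nat.lt_succ_self s)
  | d + 1, s, h => by
    rw [rng, Bool.and_eq_true]
    have h2 : 2 ^ (d + 1) = 2 ^ d + 2 ^ d := by rw [pow_succ]; omega
    exact ⟨sp29_rng_of fun i h3 h4 => h i h3 (by omega), sp29_rng_of fun i h3 h4 => h i (by omega) (by omega)⟩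

theorem sp29_cand_big {k l a i : ℕ} (h : (k + l) / 2 < i) : cand k l a i = true := by
  have h1 : Nat.ble ((k + l) / 2 + 1) i = true := Nat.ble_eq_true_of_le h
  unfold cand
  rw [h1]
  simp only [Bool.or_true, Bool.true_or]

/-- the range check from blocks of length `2 ^ e`; nothing to check beyond `(k + l) / 2` -/
theorem sp29_rng_blocks {k l a d : ℕ} (e n : ℕ) (hn : (k + l) / 2 < n * 2 ^ e)
    (h : ∀ j < n, rng (cand k l a) e (j * 2 ^ e) = true) : rng (cand k l a) d 0 = true := by
  refine sp29_rng_of fun i _ _ => ?_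
  rcases lt_or_ge ((k + l) / 2) i with h1 | h1
  · exact sp29_cand_big h1
  · have hp : 0 < 2 ^ e := Nat.two_pow_pos e
    have h2 : i < n * 2 ^ e := lt_of_le_of_lt h1 hn
    have h3 : i / 2 ^ e < n := (Nat.div_lt_iff_lt_mul hp).2 h2
    have h4 : i / 2 ^ e * 2 ^ e ≤ i := Nat.div_mul_le_self i _
    have h5 : i < i / 2 ^ e * 2 ^ e + 2 ^ e := Nat.lt_div_mul_add hp
    exact rng_spec (h _ h3) i h4 h5

theorem sp29_fi24_c0 : rng (cand 31671 275264 57477) 15 (0 * 2 ^ 15) = true := by decide +kernel

theorem sp29_fi24_c1 : rng (cand 31671 275264 57477) 15 (1 * 2 ^ 15) = true := by decide +kernel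

theorem sp29_fi24_c2 : rng (cand 31671 275264 57477) 15 (2 * 2 ^ 15) = true := by decide +kernel

theorem sp29_fi24_c3 : rng (cand 31671 275264 57477) 15 (3 * 2 ^ 15) = true := by decide +kernel

theorem sp29_fi24_c4 : rng (cand 31671 275264 57477) 15 (4 * 2 ^ 15) = true := by decide +kernel

theorem rc_fi24 (h : RankThree.R3 G X R 31671 275264) : RC G 57477 ∧ RC G 249458 :=
  real_pair (d := 19) h (Or.inl (by decide)) (by norm_num) (by norm_num) (by norm_num)
    (sp29_rng_blocks 15 5 (by norm_num) fun j hj => by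
      rcases j with _ | _ | _ | _ | _ | j
      · exact sp29_fi24_c0
      · exact sp29_fi24_c1
      · exact sp29_fi24_c2
      · exact sp29_fi24_c3
      · exact sp29_fi24_c4
      · omega)

theorem rc_m22 (h : RankThree.R3 G X R 16 60) (hd : ¬ 38 ∣ Nat.card G) : RC G 21 ∧ RC G 55 :=
  real_pair (d := 7) h (Or.inr hd) (by norm_num) (by norm_num) (by norm_num) (by decide +kernel)

end Cfsg.Agent.H619.R4
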