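import Cfsg.Agent.H619.R4.Defs
import Cfsg.Agent.H612.Even

/-!
# L2: a real irreducible character of even degree not trivial on `N`, `G / N` a 2-group (S4554, helper619)
-/

set_option autoImplicit false

namespace Cfsg.Agent.H619.R4

open Cfsg Cfsg.Agent.Characters Cfsg.Agent.Blocks Cfsg.Agent.H686.CharKit Cfsg.Agent.H612.Base

universe u

theorem pow_card_pred {G : Type*} [Group G] [Finite G] (g : G) : g ^ (Nat.card G - 1) = g⁻¹ := by
  rw [eq_inv_iff_mul_eq_one, ← pow_succ, Nat.sub_add_cancel Nat.card_pos]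
  exact pow_card_eq_one'

theorem km_card (G : Type*) [Group G] [Finite G] : KM G (Nat.card G - 1) where
  sq g := by rw [pow_card_pred, pow_card_pred, inv_inv]
  odd g _ := pow_card_pred g

theorem real_of_fx {G : Type*} [Group G] [Finite G] (χ : IrrCharacter G) (h : Fx (Nat.card G - 1) (χ : G → ℂ)) (g : G) :
    ((χ : G → ℂ) g).im = 0 := by
  have h1 : (χ : G → ℂ) (g ^ (Nat.card G - 1)) = (χ : G → ℂ) g := h g
  rw [pow_card_pred, Core.isCharacter_apply_inv (Core.isIrr_isCharacter χ.2)] at h1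
  exact Complex.conj_eq_iff_im.1 h1

theorem fx_of_real {G : Type*} [Group G] [Finite G] (χ : IrrCharacter G) (h : ∀ g, ((χ : G → ℂ) g).im = 0) :
    Fx (Nat.card G - 1) (χ : G → ℂ) := by
  intro g
  rw [pow_card_pred, Core.isCharacter_apply_inv (Core.isIrr_isCharacter χ.2)]
  exact Complex.conj_eq_iff_im.2 (h g)

/-- **L2** for quotients which are 2-groups. -/
theorem real_even {S : Type u} [Group S] (hS : H612.Even.EvenOver S) {G : Type u} [Group G] [Finite G] (N : Subgroup G)
    [N.Normal] (e : Nonempty (S ≃* N)) (h2 : IsPGroup 2 (G ⧸ N)) : ∃ d, Even d ∧ RD G N d := by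
  obtain ⟨χ, h1, h3, h4⟩ := hS G N e h2 _ (km_card G)
  exact ⟨_, h3, χ, real_of_fx χ h1, h4, rfl⟩

end Cfsg.Agent.H619.R4
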