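import Cfsg.Agent.H619.R4.Act
import Cfsg.Agent.H619.R4.LTwo
import Cfsg.Agent.H90.R4.Prime
import Cfsg.Agent.H494.R4.OddExt
import Cfsg.Agent.H713.Two.Sing
import Cfsg.Agent.H722.RealP
import Cfsg.Agent.Transfer.Residual

/-!
# Criteria for the rows of simple groups with `|Out| ≤ 2` (S4554, helper619)

* `RC S d` : real irreducible character of degree `d` of `S`;
* `index_le`, `comm_of_index`, `isPGroup_of_index` : `|G : N| ≤ |Out S| ≤ 2`;
* `top_prime` : `G = N`, `p ∥ |G|`, a real element of order `p` and a real irreducible degree divisible by `p`;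
* `two_full` : `|G : N| = 2`, the elements of order `p ∥ |N|` form one class, real odd degree divisible by `p`;
* `of_even`, `of_odd` : two real degrees of the same parity.
-/

set_option autoImplicit false
set_option linter.unusedSectionVars false

open Cfsg

namespace Cfsg.Agent.H619.R4

open Cfsg.Agent.Characters Cfsg.Agent.Characters.Core Cfsg.Agent.Blocks Cfsg.Agent.H686.CharKit
open Cfsg.Agent.H722.RealP (HasReal)
open scoped ComplexConjugate

universe u v

/-- a real irreducible character of degree `d` -/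
def RC (S : Type*) [Group S] (d : ℕ) : Prop :=
  ∃ χ : IrrCharacter S, (∀ g, ((χ : S → ℂ) g).im = 0) ∧ charDegree (χ : S → ℂ) = d

theorem RC.congr {S T : Type*} [Group S] [Group T] (e : S ≃* T) {d : ℕ} (h : RC S d) : RC T d := by
  obtain ⟨χ, h1, h2⟩ := h
  refine ⟨⟨(χ : S → ℂ) ∘ e.symm, isIrr_comp (e.symm : T →* S) e.symm.surjective χ.2⟩, fun g => h1 _, ?_⟩
  have h3 : charDegree ((χ : S → ℂ) ∘ e.symm) = charDegree (χ : S → ℂ) := by
    unfold charDegree
    simp
  exact h3.trans h2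

theorem RC.of_conj {S : Type*} [Group S] {d : ℕ} {χ : IrrCharacter S} (hr : ∀ g, conj ((χ : S → ℂ) g) = (χ : S → ℂ) g)
    (hd : (χ : S → ℂ) 1 = d) : RC S d :=
  ⟨χ, fun g => Complex.conj_eq_iff_im.1 (hr g), Cfsg.Agent.Blocks.Basic.charDegree_of_eq hd⟩

theorem RC.rd {G : Type u} [Group G] [Finite G] {N : Subgroup G} [N.Normal] (hc : ∀ a b : G, a * b * a⁻¹ * b⁻¹ ∈ N)
    {d : ℕ} (h : RC G d) (h1 : d ≠ 1) : RD G N d := by
  obtain ⟨χ, hr, hd⟩ := h
  refine RD.of_real hc (χ := χ) (fun g => Complex.conj_eq_iff_im.2 (hr g)) ?_ h1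
  rw [← hd]
  exact Cfsg.Agent.Blocks.Basic.irr_one_eq_charDegree χ.2

section index

theorem index_congr {X Y : Type*} [Group X] [Group Y] (e : X ≃* Y) :
    (MulAut.conj : X →* MulAut X).range.index = (MulAut.conj : Y →* MulAut Y).range.index := by
  have h1 : (MulAut.conj : Y →* MulAut Y).range =
      (MulAut.conj : X →* MulAut X).range.map (MulAut.congr e).toMonoidHom := by
    ext f
    constructor
    · rintro ⟨y, rfl⟩
      refine ⟨MulAut.conj (e.symm y), ⟨_, rfl⟩, ?_⟩
      ext z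
      show e (e.symm y * e.symm z * (e.symm y)⁻¹) = y * z * y⁻¹
      simp
    · rintro ⟨_, ⟨x, rfl⟩, rfl⟩
      refine ⟨e x, ?_⟩
      ext z
      show e x * z * (e x)⁻¹ = e (x * e.symm z * x⁻¹)
      simp
  rw [h1]
  exact (Subgroup.index_map_of_bijective (f := (MulAut.congr e).toMonoidHom) (MulAut.congr e).bijective _).symm

/-- `|G : N| ≤ |Out N|` -/
theorem index_le_aux {G : Type*} [Group G] [Finite G] {N : Subgroup G} [N.Normal]
    (hc : Subgroup.centralizer (N : Set G) = ⊥) : N.index ≤ (MulAut.conj : ↥N →* MulAut ↥N).range.index := by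
  have h1 : Function.Injective (MulAut.conjNormal : G →* MulAut ↥N) := by
    rw [injective_iff_map_eq_one]
    intro g hg
    have h2 : g ∈ Subgroup.centralizer (N : Set G) := by
      rw [Subgroup.mem_centralizer_iff]
      intro n hn
      have h3 := congrArg (fun f : MulAut ↥N => ((f ⟨n, hn⟩ : ↥N) : G)) hg
      simp only [MulAut.conjNormal_apply, MulAut.one_apply] at h3
      rw [mul_inv_eq_iff_eq_mul] at h3
      exact h3.symm
    rw [hc] at h2
    exact h2
  have h2 : Nat.card G ≤ Nat.card (MulAut ↥N) := Nat.card_le_card_of_injective _ h1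
  have h3 : Nat.card ↥(MulAut.conj : ↥N →* MulAut ↥N).range ≤ Nat.card ↥N :=
    Nat.card_le_card_of_surjective _ (MulAut.conj : ↥N →* MulAut ↥N).rangeRestrict_surjective
  have h4 := N.card_mul_index
  have h5 := (MulAut.conj : ↥N →* MulAut ↥N).range.card_mul_index
  have h6 : 0 < Nat.card ↥N := Nat.card_pos
  have h7 : Nat.card ↥N * N.index ≤ Nat.card ↥N * (MulAut.conj : ↥N →* MulAut ↥N).range.index := by
    rw [h4]
    refine h2.trans ?_
    rw [← h5]
    exact Nat.mul_le_mul_right _ h3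
  exact Nat.le_of_mul_le_mul_left h7 h6

variable {S : Type u} [Group S] {G : Type v} [Group G] [Finite G] {N : Subgroup G} [N.Normal]

theorem index_le (e : S ≃* N) (hc : Subgroup.centralizer (N : Set G) = ⊥) {n : ℕ}
    (hout : (MulAut.conj : S →* MulAut S).range.index ≤ n) : N.index ≤ n := by
  refine (index_le_aux hc).trans ?_
  rw [← index_congr e]
  exact hout

/-- `|G : N| ≤ 2`: `G / N` is commutative. -/
theorem comm_of_index (h : N.index ≤ 2) (a b : G) : a * b * a⁻¹ * b⁻¹ ∈ N := by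
  have h0 : N.index ≠ 0 := Subgroup.index_ne_zero_of_finite
  have h1 : N.index = 1 ∨ N.index = 2 := by omega
  rcases h1 with h1 | h1
  · rw [Subgroup.index_eq_one.1 h1]
    exact Subgroup.mem_top _
  · have key : ∀ x y : G, x * y ∈ N ↔ (x ∈ N ↔ y ∈ N) := fun x y => Subgroup.mul_mem_iff_of_index_two h1
    rw [key, key, key, inv_mem_iff, inv_mem_iff]
    tauto

theorem isPGroup_of_index (h : N.index ≤ 2) : IsPGroup 2 (G ⧸ N) := by
  have h0 : N.index ≠ 0 := Subgroup.index_ne_zero_of_finite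
  have h1 : N.index = 1 ∨ N.index = 2 := by omega
  rcases h1 with h1 | h1
  · exact IsPGroup.of_card (n := 0) (by rw [← Subgroup.index_eq_card, h1, pow_zero])
  · exact IsPGroup.of_card (n := 1) (by rw [← Subgroup.index_eq_card, h1, pow_one])

theorem commutator_le_of (h : ∀ a b : G, a * b * a⁻¹ * b⁻¹ ∈ N) : commutator G ≤ N := by
  rw [commutator_def, Subgroup.commutator_le]
  intro a _ b _
  rw [commutatorElement_def]
  exact h a b

end index

section top

variable {G : Type u} [Group G] [Finite G]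

/-- **`G = N`**: a real element of order `p ∥ |G|` and a real irreducible degree divisible by `p`. -/
theorem top_prime {N : Subgroup G} [N.Normal] (hN : N = ⊤) {p : ℕ} (hp : p.Prime) (hp2 : p ≠ 2)
    (hsq : ¬ p ^ 2 ∣ Nat.card G) (hreal : HasReal p G) {d : ℕ} (hd : RC G d) (hpd : p ∣ d) : R3 G N := by
  subst hN
  obtain ⟨x, hx, hinv⟩ := hreal.isConj
  have hc : ∀ a b : G, a * b * a⁻¹ * b⁻¹ ∈ (⊤ : Subgroup G) := fun a b => Subgroup.mem_top _
  obtain ⟨b, hb, hpb, hRb⟩ := H90.R4.Prime.prime_even hp hp2 hsq hx hinv ⊤ le_top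
  obtain ⟨a, ha, hpa, hRa⟩ := H90.R4.Prime.prime_odd hp hp2 hsq hx hinv ⊤ (Subgroup.mem_top x) (m := 1) odd_one (by
    rw [Subgroup.index_top, Subgroup.relIndex_top_left])
  have hd1 : d ≠ 1 := by
    rintro rfl
    exact hp.one_lt.ne' (Nat.dvd_one.1 hpd)
  refine ⟨a, b, d, ?_, ?_, ?_, hRa, hRb, hd.rd hc hd1⟩
  · rintro rfl
    exact (Nat.not_even_iff_odd.2 ha) hb
  · rintro rfl
    exact hpa hpd
  · rintro rfl
    exact hpb hpd

end top

section two

variable {G : Type u} [Group G] [Finite G] {N : Subgroup G} [N.Normal]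

theorem R3.of_even_prime (hc : ∀ a b : G, a * b * a⁻¹ * b⁻¹ ∈ N) {p : ℕ} (hp : p.Prime) (hp2 : p ≠ 2)
    (hsq : ¬ p ^ 2 ∣ Nat.card G) (hreal : HasReal p G) {c d : ℕ} (hRc : RD G N c) (hRd : RD G N d) (hcp : p ∣ c)
    (hd : Odd d) (hne : c ≠ d) : R3 G N := by
  obtain ⟨x, hx, hinv⟩ := hreal.isConj
  obtain ⟨b, hb, hpb, hRb⟩ := H90.R4.Prime.prime_even hp hp2 hsq hx hinv N (commutator_le_of hc)
  refine ⟨b, c, d, ?_, ?_, hne, hRb, hRc, hRd⟩
  · rintro rfl
    exact hpb hcp
  · rintro rfl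
    exact (Nat.not_even_iff_odd.2 hd) hb

/-- Fusion controlled by `N`: the centralizer of `x` is not contained in `N`. -/
theorem exists_cent_not_mem (hN : N.index = 2) {p : ℕ} [hp : Fact p.Prime]
    (hG : (Nat.card N).factorization p = 1) {x : N} (hx : orderOf x = p)
    (hrat : ∀ j : ℕ, ¬ p ∣ j → IsConj x (x ^ j)) :
    ∃ u ∉ N, u ∈ Subgroup.centralizer ({(x : G)} : Set G) := by
  obtain ⟨g, hg⟩ : ∃ g : G, g ∉ N := by
    by_contra hcon
    push Not at hcon
    have h1 : N = ⊤ := (Subgroup.eq_top_iff' N).2 hcon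
    rw [h1, Subgroup.index_top] at hN
    omega
  have hy : orderOf (MulAut.conjNormal g x : N) = p := by rw [MulEquiv.orderOf_eq, hx]
  obtain ⟨j, hj, hc⟩ := H713.Two.Sing.isConj_pow hG hx hy
  obtain ⟨n, hn⟩ := isConj_iff.1 (hc.trans (hrat j hj).symm)
  have hn' : (n : G) * (g * (x : G) * g⁻¹) * (n : G)⁻¹ = x := by
    have := congrArg Subtype.val hn
    simpa using this
  refine ⟨(n : G) * g, fun h => hg ((N.mul_mem_cancel_left n.2).1 h), ?_⟩
  rw [Subgroup.mem_centralizer_singleton_iff]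
  have h1 : (n : G) * g * (x : G) * ((n : G) * g)⁻¹ = x := by
    have h2 : (n : G) * g * (x : G) * ((n : G) * g)⁻¹ = (n : G) * (g * (x : G) * g⁻¹) * (n : G)⁻¹ := by group
    rw [h2, hn']
  exact mul_inv_eq_iff_eq_mul.1 h1

theorem relIndex_eq_two (hN : N.index = 2) {C : Subgroup G} (h : ∃ u ∉ N, u ∈ C) : N.relIndex C = 2 := by
  obtain ⟨u, huN, huC⟩ := h
  have h1 : N.relIndex C ∣ 2 := hN ▸ Subgroup.relIndex_dvd_index_of_normal N C
  have h2 : N.relIndex C ≠ 1 := by
    rw [Ne, Subgroup.relIndex_eq_one]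
    exact fun h => huN (h huC)
  rcases (Nat.dvd_prime Nat.prime_two).1 h1 with h3 | h3
  · exact absurd h3 h2
  · exact h3

theorem pResidual_two_top {S : Type u} [Group S] [Finite S] [IsSimpleGroup S] (hna : ¬ IsMulCommutative S) :
    pResidual 2 S = ⊤ := by
  have : Fact (Nat.Prime 2) := ⟨Nat.prime_two⟩
  have hn : (pResidual 2 S).Normal := Cfsg.Agent.Transfer.Residual.pResidual_normal 2
  rcases hn.eq_bot_or_eq_top with h | h
  · exfalso
    apply not_isPGroup hna (p := 2)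
    rw [IsPGroup.iff_orderOf]
    intro g
    obtain ⟨k, m, hm, hkm⟩ := Nat.exists_eq_two_pow_mul_odd (orderOf_pos g).ne'
    have h1 : g ^ 2 ^ k ∈ pResidual 2 S := by
      apply Subgroup.subset_closure
      show (orderOf (g ^ 2 ^ k)).Coprime 2
      rw [orderOf_pow_of_dvd (by positivity) (by rw [hkm]; exact Dvd.intro _ rfl), hkm,
        Nat.mul_div_cancel_left _ (by positivity)]
      exact hm.coprime_two_right
    rw [h, Subgroup.mem_bot] at h1
    obtain ⟨j, -, hj⟩ := (Nat.dvd_prime_pow Nat.prime_two).1 (orderOf_dvd_of_pow_eq_one h1)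
    exact ⟨j, hj⟩
  · exact h

theorem center_bot_of {S : Type u} [Group S] [IsSimpleGroup S] (hna : ¬ IsMulCommutative S) :
    Subgroup.center S = ⊥ := by
  rcases (inferInstance : (Subgroup.center S).Normal).eq_bot_or_eq_top with h | h
  · exact h
  · exact absurd ⟨⟨fun a b => (Subgroup.mem_center_iff.1 (h ▸ Subgroup.mem_top b : b ∈ Subgroup.center S) a)⟩⟩ hna

/-- A real character of odd degree of `S`. -/
theorem rd_of_odd {S : Type u} [Group S] [Finite S] [IsSimpleGroup S] (hna : ¬ IsMulCommutative S) (f : S ≃* N)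
    {d : ℕ} (hd : RC S d) (hod : Odd d) (h1 : d ≠ 1) : ∃ k, k ∣ N.index ∧ RD G N (k * d) := by
  obtain ⟨θ, hr, hθ⟩ := hd
  have hE := H494.R4.oext_of_odd (center_bot_of hna) (pResidual_two_top hna) θ.2 hr (by rw [hθ]; exact hod)
  have h2 := H494.R4.rd_of_oext θ.2 (H494.R4.ne_of_degree θ.2 (by rw [hθ]; exact h1)) hE N f
  rw [hθ] at h2
  refine ⟨_, ?_, h2⟩
  rw [Subgroup.index_eq_card]
  exact H494.R4.index_stb_dvd N f (isIrr_isClassFunction θ.2)

/-- **`|G : N| = 2`**, full fusion. -/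
theorem two_full (hN : N.index = 2) {S : Type u} [Group S] [Finite S] [IsSimpleGroup S] (hna : ¬ IsMulCommutative S)
    (f : S ≃* N) {p : ℕ} [hp : Fact p.Prime] (hp2 : p ≠ 2) (hS : (Nat.card S).factorization p = 1) {x : S}
    (hx : orderOf x = p) (hrat : ∀ j : ℕ, ¬ p ∣ j → IsConj x (x ^ j)) {d : ℕ} (hd : RC S d) (hod : Odd d)
    (hpd : p ∣ d) : R3 G N := by
  have hNc : Nat.card N = Nat.card S := (Nat.card_congr f.toEquiv).symm
  have hG : (Nat.card G).factorization p = 1 := by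
    rw [← N.card_mul_index, hN, Nat.factorization_mul Nat.card_pos.ne' two_ne_zero, Finsupp.add_apply, hNc, hS]
    have : (2 : ℕ).factorization p = 0 := Nat.factorization_eq_zero_of_not_dvd fun h =>
      hp2 ((Nat.prime_dvd_prime_iff_eq hp.out Nat.prime_two).1 h)
    omega
  have hsq : ¬ p ^ 2 ∣ Nat.card G := by
    rw [hp.out.pow_dvd_iff_le_factorization Nat.card_pos.ne', hG]
    norm_num
  have hinvS : IsConj x x⁻¹ := by
    have h1 := hrat (p - 1) (fun h => by
      have h2 := Nat.le_of_dvd (by have := hp.out.two_le; omega) h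
      have := hp.out.two_le
      omega)
    have h2 : x ^ (p - 1) = x⁻¹ := by
      rw [eq_inv_iff_mul_eq_one, ← pow_succ, Nat.sub_add_cancel hp.out.one_lt.le, ← hx, pow_orderOf_eq_one]
    rwa [h2] at h1
  set y : N := f x with hy
  have hyo : orderOf y = p := by rw [hy, MulEquiv.orderOf_eq, hx]
  have hyrat : ∀ j : ℕ, ¬ p ∣ j → IsConj y (y ^ j) := by
    intro j hj
    rw [hy, ← map_pow]
    exact MonoidHom.map_isConj f.toMonoidHom (hrat j hj)
  have hyG : orderOf (y : G) = p := by rw [Subgroup.orderOf_coe, hyo]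
  have hinv : IsConj (y : G) (y : G)⁻¹ := by
    have h1 : IsConj y y⁻¹ := by
      rw [hy, ← map_inv]
      exact MonoidHom.map_isConj f.toMonoidHom hinvS
    exact MonoidHom.map_isConj N.subtype h1
  have hc : ∀ a b : G, a * b * a⁻¹ * b⁻¹ ∈ N := comm_of_index (by rw [hN])
  have hcent := exists_cent_not_mem hN (by rw [hNc, hS]) hyo hyrat
  obtain ⟨b, hb, hpb, hRb⟩ := H90.R4.Prime.prime_even hp.out hp2 hsq hyG hinv N (commutator_le_of hc)
  obtain ⟨a, ha, hpa, hRa⟩ := H90.R4.Prime.prime_odd hp.out hp2 hsq hyG hinv N y.2 (m := 1) odd_one (by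
    rw [hN, relIndex_eq_two hN hcent])
  have hd1 : d ≠ 1 := by
    rintro rfl
    exact hp.out.one_lt.ne' (Nat.dvd_one.1 hpd)
  obtain ⟨k, -, hk⟩ := rd_of_odd hna f hd hod hd1
  have hpk : p ∣ k * d := hpd.mul_left k
  refine ⟨a, b, k * d, ?_, ?_, ?_, hRa, hRb, hk⟩
  · rintro rfl
    exact (Nat.not_even_iff_odd.2 ha) hb
  · rintro rfl
    exact hpa hpk
  · rintro rfl
    exact hpb hpk

/-- two even degrees -/
theorem R3.of_even [IsSimpleGroup N] (hna : ¬ IsMulCommutative N) (h2 : 2 ∣ Nat.card N) {a b : ℕ} (ha : Even a)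
    (hb : Even b) (hab : a ≠ b) (hRa : RD G N a) (hRb : RD G N b) : R3 G N := by
  obtain ⟨d, hd, hR⟩ := real_odd N hna h2
  refine ⟨a, b, d, hab, ?_, ?_, hRa, hRb, hR⟩
  · rintro rfl
    exact (Nat.not_even_iff_odd.2 hd) ha
  · rintro rfl
    exact (Nat.not_even_iff_odd.2 hd) hb

/-- two odd degrees -/
theorem R3.of_odd {S : Type u} [Group S] (hS : H612.Even.EvenOver S) (f : S ≃* N) (hi : N.index ≤ 2) {a b : ℕ}
    (ha : Odd a) (hb : Odd b) (hab : a ≠ b) (hRa : RD G N a) (hRb : RD G N b) : R3 G N := by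
  obtain ⟨d, hd, hR⟩ := real_even hS N ⟨f⟩ (isPGroup_of_index hi)
  refine ⟨a, b, d, hab, ?_, ?_, hRa, hRb, hR⟩
  · rintro rfl
    exact (Nat.not_even_iff_odd.2 ha) hd
  · rintro rfl
    exact (Nat.not_even_iff_odd.2 hb) hd

end two

section rows

variable {S : Type u} [Group S]

/-- **Rows with `Out = 1`.** -/
theorem row_one (hout : (MulAut.conj : S →* MulAut S).range.index = 1)
    (h : ∀ (G : Type u) [Group G] [Finite G] (N : Subgroup G) [N.Normal], S ≃* N → N = ⊤ → S ≃* G → R3 G N) :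
    Row S := by
  intro G _ _ N _ ⟨f⟩ hC _
  have h1 := index_le f hC (n := 1) (by rw [hout])
  have h0 : N.index ≠ 0 := Subgroup.index_ne_zero_of_finite
  have h2 : N = ⊤ := Subgroup.index_eq_one.1 (by omega)
  exact h G N f h2 (f.trans ((MulEquiv.subgroupCongr h2).trans Subgroup.topEquiv))

/-- **Rows with `|Out| ≤ 2`.** -/
theorem row_two (hout : (MulAut.conj : S →* MulAut S).range.index ≤ 2)
    (h : ∀ (G : Type u) [Group G] [Finite G] (N : Subgroup G) [N.Normal], S ≃* N → N = ⊤ → S ≃* G → R3 G N)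
    (h2 : ∀ (G : Type u) [Group G] [Finite G] (N : Subgroup G) [N.Normal], S ≃* N →
      Subgroup.centralizer (N : Set G) = ⊥ → N.index = 2 → R3 G N) :
    Row S := by
  intro G _ _ N _ ⟨f⟩ hC _
  have h1 := index_le f hC (n := 2) hout
  have h0 : N.index ≠ 0 := Subgroup.index_ne_zero_of_finite
  have h3 : N.index = 1 ∨ N.index = 2 := by omega
  rcases h3 with h3 | h3
  · have h2 : N = ⊤ := Subgroup.index_eq_one.1 (by omega)
    exact h G N f h2 (f.trans ((MulEquiv.subgroupCongr h2).trans Subgroup.topEquiv))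
  · exact h2 G N f hC h3

/-- `Out = 1` and a prime. -/
theorem row_one_prime [Finite S] (hout : (MulAut.conj : S →* MulAut S).range.index = 1) {p : ℕ} (hp : p.Prime)
    (hp2 : p ≠ 2) (hsq : ¬ p ^ 2 ∣ Nat.card S) (hreal : HasReal p S) {d : ℕ} (hd : RC S d) (hpd : p ∣ d) : Row S :=
  row_one hout fun G _ _ N _ _ hN f => top_prime hN hp hp2 (by rwa [← Nat.card_congr f.toEquiv])
    (hreal.map_equiv f) (hd.congr f) hpd

/-- `|Out| ≤ 2`, full fusion and a real odd degree divisible by `p`. -/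
theorem row_two_prime [Finite S] [IsSimpleGroup S] (hna : ¬ IsMulCommutative S)
    (hout : (MulAut.conj : S →* MulAut S).range.index ≤ 2) {p : ℕ} [hp : Fact p.Prime]
    (hp2 : p ≠ 2) (hS : (Nat.card S).factorization p = 1) {x : S}
    (hx : orderOf x = p) (hrat : ∀ j : ℕ, ¬ p ∣ j → IsConj x (x ^ j)) {d : ℕ} (hd : RC S d) (hod : Odd d)
    (hpd : p ∣ d) : Row S := by
  have hsq : ¬ p ^ 2 ∣ Nat.card S := by
    rw [hp.out.pow_dvd_iff_le_factorization Nat.card_pos.ne', hS]
    norm_num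
  have hreal : HasReal p S := by
    refine H722.RealP.hasReal_of_isConj hx ?_
    have h1 := hrat (p - 1) (fun h => by
      have h2 := Nat.le_of_dvd (by have := hp.out.two_le; omega) h
      have := hp.out.two_le
      omega)
    have h2 : x ^ (p - 1) = x⁻¹ := by
      rw [eq_inv_iff_mul_eq_one, ← pow_succ, Nat.sub_add_cancel hp.out.one_lt.le, ← hx, pow_orderOf_eq_one]
    rwa [h2] at h1
  refine row_two hout (fun G _ _ N _ _ hN f => ?_) fun G _ _ N _ f _ hN => two_full hN hna f hp2 hS hx hrat hd hod hpd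
  exact top_prime hN hp.out hp2 (by rwa [← Nat.card_congr f.toEquiv]) (hreal.map_equiv f) (hd.congr f) hpd

theorem two_dvd_of_rc [Finite S] {d : ℕ} (hd : RC S d) (h : Even d) : 2 ∣ Nat.card S := by
  obtain ⟨χ, -, rfl⟩ := hd
  exact (even_iff_two_dvd.1 h).trans (Cfsg.Agent.Blocks.Knorr.charDegree_dvd χ.2)

/-- `Out = 1` and two even degrees. -/
theorem row_one_even [Finite S] [IsSimpleGroup S] (hna : ¬ IsMulCommutative S)
    (hout : (MulAut.conj : S →* MulAut S).range.index = 1) {a b : ℕ} (ha : Even a) (hb : Even b) (hab : a ≠ b)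
    (hRa : RC S a) (hRb : RC S b) : Row S := by
  refine row_one hout fun G _ _ N _ f hN g => ?_
  have hs : IsSimpleGroup N := (MulEquiv.isSimpleGroup_congr f).1 inferInstance
  have hc : ∀ a b : G, a * b * a⁻¹ * b⁻¹ ∈ N := fun a b => hN ▸ Subgroup.mem_top _
  refine R3.of_even (fun h => hna ?_) ?_ ha hb hab ((hRa.congr g).rd hc ?_) ((hRb.congr g).rd hc ?_)
  · exact ⟨⟨fun x y => f.injective (by rw [map_mul, map_mul]; exact h.is_comm.comm _ _)⟩⟩
  · rw [← Nat.card_congr f.toEquiv]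
    exact two_dvd_of_rc hRa ha
  · rintro rfl
    exact absurd ha (by decide)
  · rintro rfl
    exact absurd hb (by decide)

/-- `Out = 1` and two odd degrees. -/
theorem row_one_odd (hE : H612.Even.EvenOver S) (hout : (MulAut.conj : S →* MulAut S).range.index = 1) {a b : ℕ}
    (ha : Odd a) (hb : Odd b) (hab : a ≠ b) (ha1 : a ≠ 1) (hb1 : b ≠ 1) (hRa : RC S a) (hRb : RC S b) : Row S := by
  refine row_one hout fun G _ _ N _ f hN g => ?_
  have hc : ∀ a b : G, a * b * a⁻¹ * b⁻¹ ∈ N := fun a b => hN ▸ Subgroup.mem_top _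
  exact R3.of_odd hE f (by rw [hN, Subgroup.index_top]; norm_num) ha hb hab ((hRa.congr g).rd hc ha1)
    ((hRb.congr g).rd hc hb1)

end rows

end Cfsg.Agent.H619.R4
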