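import Cfsg.Agent.H619.R4.Four
import Cfsg.Agent.StandardComponent.AltAut
import Cfsg.Agent.SectRankFour.PermAut

/-!
# Actions of almost simple groups (S4554, helper619)

* `exists_act` : `Q ≤ P` with `C_P(Q) = 1` such that every automorphism of `Q` is conjugation by an element of `P`;
  then every `G` with `C_G(N) = 1`, `N ≅ Q` normal in `G`, embeds into `P` over `Q`;
* `row_of_four` : if `P = Sym(Ω)` and `Q` is 4-transitive then `Row Q`;
* `row_alt` : alternating groups of degree at least 7.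
-/

set_option autoImplicit false

open Cfsg

namespace Cfsg.Agent.H619.R4

universe u

theorem conj_uniq {P : Type*} [Group P] {Q : Subgroup P} (hQc : Subgroup.centralizer (Q : Set P) = ⊥) {a b : P}
    (h : ∀ x : Q, a * x * a⁻¹ = b * x * b⁻¹) : a = b := by
  have h1 : b⁻¹ * a ∈ Subgroup.centralizer (Q : Set P) := by
    rw [Subgroup.mem_centralizer_iff]
    intro x hx
    have h2 := h ⟨x, hx⟩
    have h3 : x * (b⁻¹ * a) = b⁻¹ * (b * x * b⁻¹) * a := by group
    have h4 : x * (b⁻¹ * a) = b⁻¹ * (a * x * a⁻¹) * a := by rw [h3]; exact congrArg (fun z => b⁻¹ * z * a) h2.symm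
    rw [h4]
    group
  rw [hQc, Subgroup.mem_bot, inv_mul_eq_one] at h1
  exact h1.symm

/-- **The action of an almost simple group.** -/
theorem exists_act {G : Type*} [Group G] {N : Subgroup G} [N.Normal] (hC : Subgroup.centralizer (N : Set G) = ⊥)
    {P : Type*} [Group P] {Q : Subgroup P} (hQc : Subgroup.centralizer (Q : Set P) = ⊥)
    (hact : ∀ σ : MulAut Q, ∃ p : P, ∀ x : Q, ((σ x : Q) : P) = p * x * p⁻¹) (e : Q ≃* N) :
    ∃ F : G →* P, Function.Injective F ∧ (∀ x : Q, F (e x) = x) ∧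
      ∀ (g : G) (x : Q), ((e.symm (MulAut.conjNormal g (e x)) : Q) : P) = F g * x * (F g)⁻¹ := by
  let c : G → MulAut Q := fun g => (e.trans (MulAut.conjNormal g)).trans e.symm
  choose p hp using hact
  have hpc : ∀ (g : G) (x : Q), ((e.symm (MulAut.conjNormal g (e x)) : Q) : P) = p (c g) * x * (p (c g))⁻¹ :=
    fun g x => hp (c g) x
  have hmul : ∀ a b : G, p (c (a * b)) = p (c a) * p (c b) := by
    intro a b
    refine conj_uniq hQc fun x => ?_
    rw [← hpc (a * b) x]
    have h1 : e.symm (MulAut.conjNormal (a * b) (e x)) =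
        e.symm (MulAut.conjNormal a (e (e.symm (MulAut.conjNormal b (e x))))) := by
      rw [map_mul, MulAut.mul_apply, MulEquiv.apply_symm_apply]
    rw [h1, hpc a, hpc b]
    group
  refine ⟨MonoidHom.mk' (fun g => p (c g)) hmul, ?_, ?_, hpc⟩
  · rw [injective_iff_map_eq_one]
    intro g hg
    have hg' : p (c g) = 1 := hg
    have h1 : g ∈ Subgroup.centralizer (N : Set G) := by
      rw [Subgroup.mem_centralizer_iff]
      intro y hy
      have h2 := hpc g (e.symm ⟨y, hy⟩)
      rw [hg', MulEquiv.apply_symm_apply, one_mul, inv_one, mul_one] at h2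
      have h3 := e.symm.injective (Subtype.ext h2)
      have h4 : g * y * g⁻¹ = y := congrArg Subtype.val h3
      exact (mul_inv_eq_iff_eq_mul.1 h4).symm
    rw [hC, Subgroup.mem_bot] at h1
    exact h1
  · intro x
    show p (c (e x)) = x
    refine conj_uniq hQc fun y => ?_
    rw [← hpc]
    have h1 : e.symm (MulAut.conjNormal ((e x : N) : G) (e y)) = x * y * x⁻¹ := by
      rw [MulEquiv.symm_apply_eq]
      refine Subtype.ext ?_
      rw [MulAut.conjNormal_apply, map_mul, map_mul, map_inv]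
      rfl
    rw [h1]
    rfl

theorem row_of_four {Ω : Type*} [Finite Ω] {Q : Subgroup (Equiv.Perm Ω)}
    (hQc : Subgroup.centralizer (Q : Set (Equiv.Perm Ω)) = ⊥)
    (hact : ∀ σ : MulAut Q, ∃ p : Equiv.Perm Ω, ∀ x : Q, ((σ x : Q) : Equiv.Perm Ω) = p * x * p⁻¹)
    (h4 : MulAction.IsMultiplyPretransitive Q Ω 4) (hX : 5 ≤ Nat.card Ω)
    (hcomm : ∀ a b : Equiv.Perm Ω, (∀ x ∈ Q, a * x * a⁻¹ ∈ Q) → (∀ x ∈ Q, b * x * b⁻¹ ∈ Q) → a * b * a⁻¹ * b⁻¹ ∈ Q)
    {S : Type u} [Group S] (f : S ≃* Q) : Row S := by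
  intro G _ _ N _ ⟨e⟩ hC _
  obtain ⟨F, hF, hx, hg⟩ := exists_act hC hQc hact (f.symm.trans e)
  have hmem : ∀ g : G, ∀ x ∈ Q, F g * x * (F g)⁻¹ ∈ Q := by
    intro g x hxQ
    have := hg g ⟨x, hxQ⟩
    rw [← this]
    exact Subtype.property _
  have hc : ∀ a b : G, a * b * a⁻¹ * b⁻¹ ∈ N := by
    intro a b
    have h1 := hcomm (F a) (F b) (hmem a) (hmem b)
    have h2 := hx ⟨_, h1⟩
    have h3 : ((f.symm.trans e) ⟨_, h1⟩ : G) = a * b * a⁻¹ * b⁻¹ := by
      apply hF
      rw [h2]
      simp only [map_mul, map_inv]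
    rw [← h3]
    exact Subtype.property _
  letI : MulAction G Ω := MulAction.compHom Ω F
  have h4' : MulAction.IsMultiplyPretransitive G Ω 4 := by
    rw [MulAction.isMultiplyPretransitive_iff] at h4 ⊢
    intro x y
    obtain ⟨q, hq⟩ := h4 x y
    refine ⟨((f.symm.trans e) q : G), ?_⟩
    ext i
    have := congrArg (fun z => z i) hq
    show F ((f.symm.trans e) q : G) (x i) = y i
    rw [hx q]
    exact this
  exact R3_of_four hc h4' hX

/-- **Alternating groups of degree at least 7.** -/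
theorem row_alt (n : ℕ) (hn : 7 ≤ n) {S : Type u} [Group S] (f : S ≃* alternatingGroup (Fin n)) : Row S := by
  have hnc : Nat.card (Fin n) = n := Nat.card_fin n
  have h2 : MulAction.IsMultiplyPretransitive (alternatingGroup (Fin n)) (Fin n) (Nat.card (Fin n) - 2) :=
    alternatingGroup.isMultiplyPretransitive (Fin n)
  obtain ⟨ψ, hψ⟩ := Cfsg.Agent.StandardComponent.AltAut.exists_autHom n hn
  refine row_of_four (Q := alternatingGroup (Fin n)) ?_ (fun σ => ⟨ψ σ, hψ σ⟩) ?_ (by rw [hnc]; omega) ?_ f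
  · rw [eq_bot_iff]
    intro g hg
    rw [Subgroup.mem_centralizer_iff] at hg
    obtain ⟨m, rfl⟩ : ∃ m, n = m + 2 := ⟨n - 2, by omega⟩
    rw [Subgroup.mem_bot]
    refine Cfsg.Agent.StandardComponent.AltAut.conj_unique (m := m) (by omega) fun x => ?_
    rw [← hg x x.2]
    group
  · exact MulAction.isMultiplyPretransitive_of_le (n := Nat.card (Fin n) - 2) (by rw [hnc]; omega) (by omega)
  · intro a b _ _
    rw [Equiv.Perm.mem_alternatingGroup]
    simp only [map_mul, map_inv]
    rw [mul_comm (Equiv.Perm.sign a) (Equiv.Perm.sign b), Int.units_inv_eq_self, Int.units_inv_eq_self,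
      mul_assoc (Equiv.Perm.sign b), Int.units_mul_self, mul_one, Int.units_mul_self]

end Cfsg.Agent.H619.R4
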