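import Cfsg.Agent.H619.R4.LOne
import Cfsg.Agent.H852.IMPerm
import Cfsg.Agent.OddOrderCharacters.PF9.GaloisClifford

/-!
# Real irreducible characters of multiply transitive groups (S4554, helper619)

* `RD.of_real` : if `G / N` is commutative then every real irreducible character of degree `≠ 1` counts;
* `two_real` : `π - 1` for a 2-transitive group;
* `four_real` : the characters of degree `(n - 1) (n - 2) / 2` and `n (n - 3) / 2` of a 4-transitive group;
* `R3_of_four` : 4-transitive groups of degree `n ≥ 5`.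
-/

set_option autoImplicit false
set_option linter.unusedSectionVars false

open Cfsg

namespace Cfsg.Agent.H619.R4

open Cfsg.Agent.Characters Cfsg.Agent.Characters.Core Cfsg.Agent.H33 Cfsg.Agent.H852.IMPerm
open scoped ComplexConjugate

universe u

section four

variable {G : Type*} [Group G] [Fintype G] (X : Type*) [MulAction G X] [Finite X]

theorem four_real [MulAction.IsMultiplyPretransitive G X 4] (hX : 4 ≤ Nat.card X) :
    (∃ χ : IrrCharacter G, (∀ g, conj ((χ : G → ℂ) g) = (χ : G → ℂ) g) ∧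
      (χ : G → ℂ) 1 = (((Nat.card X - 1) * (Nat.card X - 2) / 2 : ℕ) : ℂ)) ∧
    (∃ χ : IrrCharacter G, (∀ g, conj ((χ : G → ℂ) g) = (χ : G → ℂ) g) ∧
      (χ : G → ℂ) 1 = ((Nat.card X * (Nat.card X - 3) / 2 : ℕ) : ℂ)) := by
  have h3 : MulAction.IsMultiplyPretransitive G X 3 := MulAction.isMultiplyPretransitive_of_le (n := 4) (by norm_num) hX
  have h2 : MulAction.IsMultiplyPretransitive G X 2 := MulAction.isMultiplyPretransitive_of_le (n := 4) (by norm_num) hX
  have h1 : MulAction.IsMultiplyPretransitive G X 1 := MulAction.isMultiplyPretransitive_of_le (n := 4) (by norm_num) hX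
  have ht : MulAction.IsPretransitive G X := by
    rw [← MulAction.is_one_pretransitive_iff]
    exact h1
  set P : G → ℂ := fun g => (fx X g : ℂ) with hP
  set T : G → ℂ := fun g => (nn X g : ℂ) with hT
  have a1 : avg (fun g => P g) = 1 := by
    have := avg_desc (G := G) X 1 (by omega)
    simpa using this
  have a2 : avg (fun g => P g * (P g - 1)) = 1 := by
    have := avg_desc (G := G) X 2 (by omega)
    simp only [cast_desc_two] at this
    exact this
  have a3 : avg (fun g => P g * (P g - 1) * (P g - 2)) = 1 := by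
    have := avg_desc (G := G) X 3 (by omega)
    simp only [cast_desc_three] at this
    exact this
  have a4 : avg (fun g => P g * (P g - 1) * (P g - 2) * (P g - 3)) = 1 := by
    have := avg_desc (G := G) X 4 (by omega)
    simp only [cast_desc_four] at this
    exact this
  have b1 : avg (fun g => T g) = 1 := avg_nn X (by omega)
  have b2 : avg (fun g => P g * T g) = 1 := avg_fx_nn X (by omega)
  have a0 : avg (fun _ : G => (1 : ℂ)) = 1 := avg_one
  have hχ : IsIrrCharacter G (fun g => P g - 1) := (Cfsg.Agent.S0157.result X (by omega)).2 h2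
  have hsq : ∀ g, P (g * g) = P g + T g := by
    intro g
    rw [hP, hT]
    simp only [fx_sq, Nat.cast_add]
  set A : G → ℂ := fun g => (P g * P g - 3 * P g + 2 - T g) / 2 with hA
  set S : G → ℂ := fun g => (P g * P g - P g + T g) / 2 with hS
  have hAc : IsCharacter G A := by
    have := Cfsg.Agent.PermChar.SymAlt.isCharacter_altSq (isIrr_isCharacter hχ)
    convert this using 1
    funext g
    rw [hA]
    simp only [hsq]
    ring
  have hSc : IsCharacter G S := by
    have := Cfsg.Agent.PermChar.SymAlt.isCharacter_symSq (isIrr_isCharacter hχ)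
    convert this using 1
    funext g
    rw [hS]
    simp only [hsq]
    ring
  have hPr : ∀ g, conj (P g) = P g := fun g => Complex.conj_natCast _
  have hTr : ∀ g, conj (T g) = T g := fun g => Complex.conj_natCast _
  have hAr : ∀ g, conj (A g) = A g := by
    intro g
    rw [hA]
    simp only [map_div₀, map_sub, map_add, map_mul, hPr, hTr, map_ofNat]
  have hSr : ∀ g, conj (S g) = S g := by
    intro g
    rw [hS]
    simp only [map_div₀, map_sub, map_add, map_mul, hPr, hTr, map_ofNat]
  -- averages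
  have cA : avg (fun g => A g) = 0 := by
    have h : (fun g => A g) = fun g => (1 / 2 : ℂ) * (P g * (P g - 1) - 2 * P g + 2 * 1 - T g) := by
      funext g
      rw [hA]
      ring
    rw [h, avg_mul, avg_sub, avg_add, avg_sub, avg_mul, avg_mul, a0, a1, a2, b1]
    norm_num
  have cAP : avg (fun g => A g * P g) = 0 := by
    have h : (fun g => A g * P g) = fun g => (1 / 2 : ℂ) * (P g * (P g - 1) * (P g - 2) - P g * T g) := by
      funext g
      rw [hA]
      ring
    rw [h, avg_mul, avg_sub, a3, b2]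
    norm_num
  have cN : avg (fun g => (P g * P g - 3 * P g + 1) * (P g * P g - 3 * P g + 1)) = 2 := by
    have h : (fun g => (P g * P g - 3 * P g + 1) * (P g * P g - 3 * P g + 1)) =
        fun g => P g * (P g - 1) * (P g - 2) * (P g - 3) + 1 := by
      funext g
      ring
    rw [h, avg_add, a0, a4]
    norm_num
  set B : G → ℂ := S - P with hB
  have hBr : ∀ g, conj (B g) = B g := by
    intro g
    rw [hB, Pi.sub_apply, map_sub, hSr, hPr]
  have hAB : classInner (A + B) (A + B) = 2 := by
    rw [inner_eq_avg _ _ (fun g => by rw [Pi.add_apply, map_add, hAr, hBr])]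
    rw [← cN]
    congr 1
    funext g
    have h : A g + B g = P g * P g - 3 * P g + 1 := by
      rw [hB, hA, hS, Pi.sub_apply]
      ring
    rw [Pi.add_apply, h]
  have hAP : classInner A P = 0 := by
    rw [inner_eq_avg _ _ hPr]
    exact cAP
  obtain ⟨a, ha⟩ := classInner_isNat hAc hAc
  obtain ⟨c, hc⟩ := classInner_isNat hAc hSc
  have hABc : classInner A B = c := by
    rw [hB, classInner_sub_right, hAP, hc, sub_zero]
  have hBAc : classInner B A = c := by
    rw [← classInner_conj_symm, hABc, Complex.conj_natCast]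
  have hBB : classInner B B = 2 - a - 2 * c := by
    rw [classInner_add_left, classInner_add_right, classInner_add_right, ha, hABc, hBAc] at hAB
    linear_combination hAB
  -- degrees
  have hP1 : P 1 = (Nat.card X : ℂ) := by
    show ((fx X (1 : G) : ℕ) : ℂ) = _
    rw [fx, MulAction.fixedBy_one_eq_univ, Nat.card_univ]
  have hT1 : T 1 = 0 := by
    have h4 := hsq 1
    rw [one_mul] at h4
    linear_combination -h4
  have hA1 : A 1 = (((Nat.card X - 1) * (Nat.card X - 2) / 2 : ℕ) : ℂ) := by
    have h4 : (Nat.card X - 1) * (Nat.card X - 2) / 2 * 2 = (Nat.card X - 1) * (Nat.card X - 2) := by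
      refine Nat.div_mul_cancel (even_iff_two_dvd.1 ?_)
      obtain ⟨m, hm⟩ : ∃ m, Nat.card X = m + 2 := ⟨Nat.card X - 2, by omega⟩
      rw [hm, show m + 2 - 1 = m + 1 by omega, show m + 2 - 2 = m by omega, mul_comm]
      exact Nat.even_mul_succ_self m
    have h5 : ((((Nat.card X - 1) * (Nat.card X - 2) / 2 : ℕ) : ℂ)) * 2 = ((Nat.card X : ℂ) - 1) * ((Nat.card X : ℂ) - 2) := by
      have h6 : ((((Nat.card X - 1) * (Nat.card X - 2) / 2 * 2 : ℕ) : ℂ)) = (((Nat.card X - 1) * (Nat.card X - 2) : ℕ) : ℂ) := by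
        rw [h4]
      rw [Nat.cast_mul, Nat.cast_mul, Nat.cast_sub (by omega), Nat.cast_sub (by omega)] at h6
      exact_mod_cast h6
    have h6 : A 1 = (P 1 * P 1 - 3 * P 1 + 2 - T 1) / 2 := rfl
    rw [h6, hP1, hT1]
    linear_combination (-1 / 2 : ℂ) * h5
  have hB1 : B 1 = ((Nat.card X * (Nat.card X - 3) / 2 : ℕ) : ℂ) := by
    have h4 : Nat.card X * (Nat.card X - 3) / 2 * 2 = Nat.card X * (Nat.card X - 3) := by
      refine Nat.div_mul_cancel (even_iff_two_dvd.1 ?_)
      obtain ⟨m, hm⟩ : ∃ m, Nat.card X = m + 3 := ⟨Nat.card X - 3, by omega⟩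
      rw [hm, show m + 3 - 3 = m by omega, Nat.even_mul]
      rcases Nat.even_or_odd m with h | h
      · exact Or.inr h
      · exact Or.inl (h.add_odd (by decide))
    have h5 : (((Nat.card X * (Nat.card X - 3) / 2 : ℕ) : ℂ)) * 2 = (Nat.card X : ℂ) * ((Nat.card X : ℂ) - 3) := by
      have h6 : (((Nat.card X * (Nat.card X - 3) / 2 * 2 : ℕ) : ℂ)) = ((Nat.card X * (Nat.card X - 3) : ℕ) : ℂ) := by
        rw [h4]
      rw [Nat.cast_mul, Nat.cast_mul, Nat.cast_sub (by omega)] at h6
      exact_mod_cast h6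
    have h6 : B 1 = (P 1 * P 1 - P 1 + T 1) / 2 - P 1 := rfl
    rw [h6, hP1, hT1]
    linear_combination (-1 / 2 : ℂ) * h5
  have hA0 : A 1 ≠ 0 := by
    rw [hA1]
    have h4 : 1 ≤ (Nat.card X - 1) * (Nat.card X - 2) / 2 := by
      have h5 : 3 * 2 ≤ (Nat.card X - 1) * (Nat.card X - 2) := Nat.mul_le_mul (by omega) (by omega)
      omega
    exact_mod_cast (by omega : (Nat.card X - 1) * (Nat.card X - 2) / 2 ≠ 0)
  have hB0n : 1 ≤ Nat.card X * (Nat.card X - 3) / 2 := by
    have h5 : 4 * 1 ≤ Nat.card X * (Nat.card X - 3) := Nat.mul_le_mul (by omega) (by omega)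
    omega
  have hB0 : B 1 ≠ 0 := by
    rw [hB1]
    exact_mod_cast (by omega : Nat.card X * (Nat.card X - 3) / 2 ≠ 0)
  have ha0 : a ≠ 0 := by
    rintro rfl
    have h4 := classInner_self_eq_zero (φ := A) (by rw [ha]; simp)
    exact hA0 (by rw [h4]; rfl)
  have hpos : 0 < (2 : ℝ) - a - 2 * c := by
    have h4 := classInner_self_eq_ofReal B
    rw [hBB] at h4
    have h5 : (2 : ℝ) - a - 2 * c = (Nat.card G : ℝ)⁻¹ * ∑ g : G, Complex.normSq (B g) := by exact_mod_cast h4
    rw [h5]
    refine mul_pos (inv_pos.2 (by exact_mod_cast Nat.card_pos)) ?_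
    refine Finset.sum_pos' (fun g _ => Complex.normSq_nonneg _) ⟨1, Finset.mem_univ _, ?_⟩
    exact Complex.normSq_pos.2 hB0
  have hac : a + 2 * c < 2 := by
    have : ((a + 2 * c : ℕ) : ℝ) < (2 : ℕ) := by push_cast; linarith
    exact_mod_cast this
  have ha1 : a = 1 := by omega
  have hc0 : c = 0 := by omega
  have hAi : IsIrrCharacter G A := isIrr_of_classInner_self hAc (by rw [ha, ha1]; simp)
  have hBn : classInner B B = 1 := by
    rw [hBB, ha1, hc0]
    norm_num
  have hBi : IsIrrCharacter G B := by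
    rcases isIrr_of_generalized ⟨S, P, hSc, Cfsg.Agent.S0157.isCharacter_fixedBy X, rfl⟩ hBn with h | h
    · exact h
    · exfalso
      obtain ⟨m, hm, hm1⟩ := isIrr_apply_one h
      have h4 : (((m + Nat.card X * (Nat.card X - 3) / 2 : ℕ)) : ℂ) = ((0 : ℕ) : ℂ) := by
        rw [Nat.cast_add, ← hm1, ← hB1, Pi.neg_apply, Nat.cast_zero]
        exact neg_add_cancel (B 1)
      have h5 : m + Nat.card X * (Nat.card X - 3) / 2 = 0 := by exact_mod_cast h4
      omega
  exact ⟨⟨⟨A, hAi⟩, hAr, hA1⟩, ⟨⟨B, hBi⟩, hBr, hB1⟩⟩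

end four

/-- `G / N` commutative: real irreducible characters of degree `≠ 1` count. -/
theorem RD.of_real {G : Type u} [Group G] [Finite G] {N : Subgroup G} [N.Normal]
    (hc : ∀ a b : G, a * b * a⁻¹ * b⁻¹ ∈ N) {χ : IrrCharacter G} (hr : ∀ g, conj ((χ : G → ℂ) g) = (χ : G → ℂ) g)
    {d : ℕ} (hd : (χ : G → ℂ) 1 = d) (h1 : d ≠ 1) : RD G N d := by
  refine ⟨χ, fun g => Complex.conj_eq_iff_im.1 (hr g), ?_, ?_⟩
  · by_contra hcon
    push Not at hcon
    apply h1
    have h3 : (χ : G → ℂ) 1 = 1 :=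
      OddOrderCharacters.PF9.GaloisClifford.degree_one_of_comm χ.2 fun a b => hcon _ (hc a b)
    rw [hd] at h3
    exact_mod_cast h3
  · exact Cfsg.Agent.Blocks.Basic.charDegree_of_eq hd

/-- the character `π - 1` -/
theorem two_real {G : Type u} [Group G] [Finite G] {X : Type*} [MulAction G X] [Finite X]
    (h2 : MulAction.IsMultiplyPretransitive G X 2) (hX : 2 ≤ Nat.card X) :
    ∃ χ : IrrCharacter G, (∀ g, conj ((χ : G → ℂ) g) = (χ : G → ℂ) g) ∧
      (χ : G → ℂ) 1 = ((Nat.card X - 1 : ℕ) : ℂ) := by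
  have h1 : MulAction.IsMultiplyPretransitive G X 1 :=
    MulAction.isMultiplyPretransitive_of_le (n := 2) (by norm_num) hX
  have ht : MulAction.IsPretransitive G X := by
    rw [← MulAction.is_one_pretransitive_iff]
    exact h1
  refine ⟨⟨_, (Cfsg.Agent.S0157.result X hX).2 h2⟩, fun g => ?_, ?_⟩
  · simp only [map_sub, Complex.conj_natCast, map_one]
  · have h3 : Nat.card (MulAction.fixedBy X (1 : G)) = Nat.card X := by
      rw [MulAction.fixedBy_one_eq_univ, Nat.card_univ]
    show ((Nat.card (MulAction.fixedBy X (1 : G)) : ℕ) : ℂ) - 1 = _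
    rw [h3, Nat.cast_sub (by omega)]
    simp

/-- **4-transitive groups of degree `n ≥ 5`.** -/
theorem R3_of_four {G : Type u} [Group G] [Finite G] {N : Subgroup G} [N.Normal]
    (hc : ∀ a b : G, a * b * a⁻¹ * b⁻¹ ∈ N) {X : Type*} [MulAction G X] [Finite X]
    (h4 : MulAction.IsMultiplyPretransitive G X 4) (hX : 5 ≤ Nat.card X) : R3 G N := by
  have := Fintype.ofFinite G
  have h2 : MulAction.IsMultiplyPretransitive G X 2 :=
    MulAction.isMultiplyPretransitive_of_le (n := 4) (by norm_num) (by omega)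
  obtain ⟨χ, hχr, hχd⟩ := two_real h2 (by omega)
  obtain ⟨⟨α, hαr, hαd⟩, β, hβr, hβd⟩ := four_real (G := G) X (by omega)
  obtain ⟨m, hm⟩ : ∃ m, Nat.card X = m + 5 := ⟨Nat.card X - 5, by omega⟩
  have e1 : Nat.card X - 1 = m + 4 := by omega
  have e2 : (Nat.card X - 1) * (Nat.card X - 2) / 2 = Nat.card X * (Nat.card X - 3) / 2 + 1 := by
    have h5 : (Nat.card X - 1) * (Nat.card X - 2) = Nat.card X * (Nat.card X - 3) + 1 * 2 := by
      rw [hm, show m + 5 - 1 = m + 4 by omega, show m + 5 - 2 = m + 3 by omega, show m + 5 - 3 = m + 2 by omega]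
      ring
    rw [h5, Nat.add_mul_div_right _ _ (by norm_num)]
  have e3 : m + 4 < Nat.card X * (Nat.card X - 3) / 2 := by
    rw [← Nat.succ_le_iff, Nat.le_div_iff_mul_le (by norm_num), hm, show m + 5 - 3 = m + 2 by omega]
    exact Nat.mul_le_mul_left _ (by omega)
  rw [e2] at hαd
  rw [e1] at hχd
  refine ⟨m + 4, Nat.card X * (Nat.card X - 3) / 2 + 1, Nat.card X * (Nat.card X - 3) / 2, ?_, ?_, ?_,
    RD.of_real hc hχr hχd ?_, RD.of_real hc hαr hαd ?_, RD.of_real hc hβr hβd ?_⟩ <;> omega

end Cfsg.Agent.H619.R4
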