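import Cfsg.Agent.H619.R4.RankTab
import Cfsg.Agent.H579.RR.SporPrime
import Cfsg.Agent.SporadicRecognition.HSAssemble
import Cfsg.Agent.H904.HSIso
import Cfsg.Agent.S2072

/-!
# Row `HS` (S4554, helper619)

The rank 3 action of degree 100 has a real character of degree 77; the elements of order 7 are self-centralizing.
-/

set_option autoImplicit false
set_option linter.unusedSectionVars false

open Cfsg

namespace Cfsg.Agent.H619.R4.HS

open MulAction Cfsg.Agent.Leech.Co0Elts Cfsg.Agent.Leech.Basic Cfsg.Agent.SporadicRecognition.RankThree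
  Cfsg.Agent.SporadicRecognition.TwoEmb Cfsg.Agent.SporadicRecognition.HSRank
  Cfsg.Agent.SporadicRecognition.HSParam Cfsg.Agent.SporadicRecognition.RankThreeOf
open Cfsg.Agent.H690.Spor

abbrev V : ↥leechLattice := Spor.leechV
abbrev W : ↥leechLattice := -(Spor.leechV + Spor.leechU')

theorem facts : IsSimpleGroup ↥(K V W) ∧ Nat.card ↥(K V W) = 44352000 := by
  obtain ⟨hs, hc⟩ := Cfsg.Agent.S0405.result _ _ norm_v norm_w dot_vw
  exact ⟨hs, hc⟩

theorem rc : RC ↥(K V W) 22 ∧ RC ↥(K V W) 77 := by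
  classical
  obtain ⟨hs, hc⟩ := facts
  obtain ⟨h1, h2⟩ := Cfsg.Agent.S1583.result _ _ norm_v norm_w dot_vw
  set v : ↥leechLattice := Spor.leechV with hv
  set w : ↥leechLattice := -(Spor.leechV + Spor.leechU') with hw
  set X : Set ↥leechLattice := {x : ↥leechLattice | sqNorm (x : GolayPt → ℤ) = 32 ∧
    dotInt (v : GolayPt → ℤ) (x : GolayPt → ℤ) = 24 ∧ dotInt (w : GolayPt → ℤ) (x : GolayPt → ℤ) = -24} with hXdef
  have hX : ∀ g ∈ K v w, ∀ x ∈ X, g • x ∈ X := by
    rintro g ⟨hgv, hgw⟩ x ⟨hx1, hx2, hx3⟩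
    refine ⟨?_, ?_, ?_⟩
    · rw [sqNorm_smul]; exact hx1
    · have := dotInt_smul g v x
      rw [show g • v = v from hgv] at this
      rw [this]; exact hx2
    · have := dotInt_smul g w x
      rw [show g • w = w from hgw] at this
      rw [this]; exact hx3
  obtain ⟨x0, hx0⟩ : X.Nonempty := by
    rw [Set.nonempty_iff_ne_empty]
    intro h
    rw [h, Set.ncard_empty] at h1
    norm_num at h1
  obtain ⟨h3, h4, h5⟩ := Cfsg.Agent.S1584.result v w x0 norm_v norm_w dot_vw hx0
  letI := act (K v w) X hX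
  obtain ⟨b, c, hr⟩ := exists_isRankThree (K v w) X hX (k := 22) (l := 77) (by rw [h1]) (by norm_num) (by norm_num)
    (by norm_num) ⟨x0, hx0⟩ (fun y => dotInt (x0 : GolayPt → ℤ) (y : GolayPt → ℤ) = 8)
    (by
      intro x hx x' hx'
      obtain ⟨g, hg1, hg2, hg3⟩ := h2 x hx x' hx'
      exact ⟨g, ⟨hg1, hg2⟩, hg3⟩)
    (by
      intro g hg hg0 y hy
      have := dotInt_smul g x0 y
      rw [show g • x0 = x0 from hg0] at this
      rw [this]; exact hy)
    (by
      intro h
      have h6 : dotInt (x0 : GolayPt → ℤ) (x0 : GolayPt → ℤ) = 32 := by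
        rw [← hx0.1]
        exact Finset.sum_congr rfl fun i _ => (sq _).symm
      have h7 : dotInt (x0 : GolayPt → ℤ) (x0 : GolayPt → ℤ) = 8 := h
      omega)
    h3 h4
    (by
      intro y hy y' hy' hne hne' h
      obtain ⟨g, hg1, hg2, hg3, hg4⟩ := h5 y hy y' hy' hne hne' h
      exact ⟨g, ⟨hg1, hg2⟩, hg3, hg4⟩)
  have hfinX : X.Finite := Set.finite_of_ncard_pos (by rw [h1]; norm_num)
  haveI : Finite ↥X := hfinX.to_subtype
  haveI : Finite ↥(K V W) := Nat.finite_of_card_ne_zero (by rw [hc]; norm_num)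
  exact rc_hs (RankThree.R3.of_orbits hr.trans hr.ne_b hr.ne_c hr.cb hr.cc hr.ne hr.cardX)

end Cfsg.Agent.H619.R4.HS

namespace Cfsg.Agent.H619.R4

open Cfsg.Agent.H690.Spor

universe u

/-- **HS** -/
theorem row_hs {S : Type u} [Group S] [Finite S] [IsSimpleGroup S] (h : Spor.IsoHS S) : Row S := by
  obtain ⟨e⟩ := h
  have hc : Nat.card Spor.HS = 44352000 :=
    (Nat.card_congr Cfsg.Agent.SporadicRecognition.HSRank.hsEquiv.toEquiv).trans HS.facts.2
  have hfin : Finite Spor.HS := Nat.finite_of_card_ne_zero (by rw [hc]; norm_num)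
  have hp : Fact (Nat.Prime 7) := ⟨by norm_num⟩
  obtain ⟨x, hx⟩ := exists_prime_orderOf_dvd_card' (G := Spor.HS) 7 (by rw [hc]; norm_num)
  have hrc : RC Spor.HS 77 := HS.rc.2.congr Cfsg.Agent.SporadicRecognition.HSRank.hsEquiv.symm
  have hout : (MulAut.conj : Spor.HS →* MulAut Spor.HS).range.index = 2 := Cfsg.Agent.S2072.result
  refine Cfsg.Agent.H579.R4.row_of_self e hc (by norm_num) (by norm_num) (by rw [hout]) (p := 7) (by norm_num) ?_ hx
    (Cfsg.Agent.H904.HSIso.card_seven ⟨MulEquiv.refl _⟩ hx) (by norm_num) hrc (by decide) (by norm_num)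
  rw [show (44352000 : ℕ) = 7 * 6336000 by norm_num, Nat.factorization_mul (by norm_num) (by norm_num), Finsupp.add_apply,
    (by norm_num : Nat.Prime 7).factorization_self, Nat.factorization_eq_zero_of_not_dvd (by norm_num)]

end Cfsg.Agent.H619.R4
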