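import Cfsg.Agent.H619.R4.Defs

/-!
# S4554: reduction to almost simple groups (helper619)
-/

set_option autoImplicit false

namespace Cfsg.Agent.H619.R4

open Cfsg Cfsg.Agent.Characters Cfsg.Agent.Blocks Cfsg.Agent.H686.CharKit
open Cfsg.Agent.H612.Heredity Cfsg.Agent.H612.MinNormal

universe u

theorem real_indFun {G : Type u} [Group G] [Fintype G] (T : Subgroup G) (ψ : T → ℂ) (hψ : ∀ t, (ψ t).im = 0) (g : G) :
    (indFun T ψ g).im = 0 := by
  classical
  rw [CharactersDeep.IndFun.indFun_def]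
  have h1 : (∑ x : G, extendByZero T ψ (x⁻¹ * g * x)).im = 0 := by
    rw [Complex.im_sum]
    refine Finset.sum_eq_zero fun x _ => ?_
    by_cases hx : x⁻¹ * g * x ∈ T
    · rw [CharactersDeep.IndFun.extendByZero_mem T ψ hx]
      exact hψ _
    · rw [CharactersDeep.IndFun.extendByZero_notMem T ψ hx, Complex.zero_im]
  rw [Complex.mul_im, h1, mul_zero, zero_add]
  have h2 : ((Nat.card T : ℂ)⁻¹).im = 0 := by
    rw [Complex.inv_im, Complex.natCast_im]
    simp
  rw [h2, zero_mul]

/-- **Inflation and induction** from the normaliser of a factor. -/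
theorem RD_ind {G : Type u} [Group G] [Finite G] (S T : Subgroup G) (hT : T = Subgroup.normalizer (S : Set G))
    (hcj : ∀ g : G, cj g S = S ∨ cj g S ≤ Subgroup.centralizer (S : Set G)) (C' : Subgroup T)
    [C'.Normal] (hC' : C' = (Subgroup.centralizer (S : Set G)).subgroupOf T)
    {d : ℕ} (h : RD (T ⧸ C') ((S.subgroupOf T).map (QuotientGroup.mk' C')) d) :
    ∃ χ : IrrCharacter G, (∀ g : G, ((χ : G → ℂ) g).im = 0) ∧ charDegree (χ : G → ℂ) = T.index * d := by
  classical
  have := Fintype.ofFinite G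
  have hST : S ≤ T := hT ▸ Subgroup.le_normalizer
  have hCT : Subgroup.centralizer (S : Set G) ≤ T := hT ▸ Subgroup.centralizer_le_normalizer _
  have hSn : (S.subgroupOf T).Normal := by
    subst hT
    infer_instance
  obtain ⟨χ, hχr, ⟨n, hn, hne⟩, hχd⟩ := h
  obtain ⟨s, hs, hsn⟩ := hn
  set ψ : IrrCharacter T := infl C' χ with hψ
  have hψr : ∀ t, ((ψ : T → ℂ) t).im = 0 := by
    intro t
    rw [hψ, infl_apply]
    exact hχr t
  have hψ1 : (ψ : T → ℂ) 1 = (χ : T ⧸ C' → ℂ) 1 := by
    rw [hψ, infl_apply]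
    rfl
  have hirr : IsIrrCharacter G (indFun T (ψ : T → ℂ)) := by
    refine irr_ind T S hST (ψ : T → ℂ) ψ.2 ?_ ?_
    · intro x
      have := Fintype.ofFinite S
      have := Fintype.ofFinite (S.subgroupOf T)
      rw [finsum_eq_sum_of_fintype]
      have h3 := sum_coset_eq_zero (S.subgroupOf T) ψ (by
        refine ⟨s, hs, ?_⟩
        rw [hψ1, hψ, infl_apply]
        rw [← hsn] at hne
        exact hne) x
      rw [← h3]
      symm
      refine Fintype.sum_equiv (Subgroup.subgroupOfEquivOfLe hST).toEquiv _ _ fun n => ?_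
      have h4 := Core.isIrr_isClassFunction ψ.2 ((n : T) * x) x
      rw [← h4]
      have h5 : x * ((n : T) * x) * x⁻¹ =
          x * ⟨((Subgroup.subgroupOfEquivOfLe hST).toEquiv n : G), hST (Subtype.prop _)⟩ := by
        apply Subtype.ext
        show (x : G) * ((n : T) * x) * (x : G)⁻¹ = x * (n : T)
        group
      rw [h5]
    · intro g hg s
      have h3 : g⁻¹ * (s : G) * g ∈ Subgroup.centralizer (S : Set G) := by
        have h4 : g⁻¹ * (s : G) * g ∈ cj g⁻¹ S := by
          rw [mem_cj]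
          have : g⁻¹⁻¹ * (g⁻¹ * (s : G) * g) * g⁻¹ = s := by group
          rw [this]
          exact s.2
        rcases hcj g⁻¹ with h5 | h5
        · exfalso
          apply hg
          rw [← mem_normalizer_iff_cj, ← hT] at h5
          have := T.inv_mem h5
          rwa [inv_inv] at this
        · exact h5 h4
      refine ⟨hCT h3, fun x => ?_⟩
      rw [hψ, infl_apply, infl_apply]
      rw [QuotientGroup.mk_mul, (QuotientGroup.eq_one_iff _).2 (show
        (⟨g⁻¹ * (s : G) * g, hCT h3⟩ : T) ∈ C' from by rw [hC']; exact h3), mul_one]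
  have hone : indFun T (ψ : T → ℂ) 1 = (T.index : ℂ) * (χ : T ⧸ C' → ℂ) 1 := by
    rw [indFun_one T (ψ : T → ℂ), hψ1]
  refine ⟨⟨indFun T (ψ : T → ℂ), hirr⟩, real_indFun T _ hψr, ?_⟩
  have h4 := charDegree_irr (⟨indFun T (ψ : T → ℂ), hirr⟩ : IrrCharacter G)
  have h6 : (charDegree (indFun T (ψ : T → ℂ)) : ℂ) = ((T.index * d : ℕ) : ℂ) := by
    rw [Nat.cast_mul, ← hχd, charDegree_irr, ← hone]
    exact h4
  exact_mod_cast h6

/-- the degrees in `RD` are not one for a nonabelian simple `N` -/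
theorem RD.ne_one {G : Type u} [Group G] [Finite G] {N : Subgroup G} [IsSimpleGroup N]
    (hna : ¬ IsMulCommutative N) {d : ℕ} (h : RD G N d) : d ≠ 1 := by
  rintro rfl
  obtain ⟨χ, -, ⟨n, hn, hne⟩, hd⟩ := h
  have h1 : (χ : G → ℂ) 1 = 1 := by rw [← charDegree_irr, hd, Nat.cast_one]
  obtain ⟨f, hf⟩ := Linear.isIrrCharacter_degree_one_iff.1 ⟨χ.2, h1⟩
  rcases (f.comp N.subtype).normal_ker.eq_bot_or_eq_top with h2 | h2
  · apply hna
    refine ⟨⟨fun a b => ?_⟩⟩
    apply (MonoidHom.ker_eq_bot_iff _).1 h2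
    rw [map_mul, map_mul, mul_comm]
  · apply hne
    have h3 : (⟨n, hn⟩ : N) ∈ (f.comp N.subtype).ker := by rw [h2]; exact Subgroup.mem_top _
    have h4 : f n = 1 := h3
    rw [h1, hf]
    show ((f n : ℂˣ) : ℂ) = 1
    rw [h4, Units.val_one]

/-- the real degrees -/
def RSet (G : Type u) [Group G] : Set ℕ :=
  {n | ∃ χ : IrrCharacter G, (∀ g : G, ((χ : G → ℂ) g).im = 0) ∧ charDegree (χ : G → ℂ) = n}

theorem RSet_quot {G : Type u} [Group G] [Finite G] (N : Subgroup G) [N.Normal] : RSet (G ⧸ N) ⊆ RSet G := by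
  rintro n ⟨χ, hχ, rfl⟩
  refine ⟨infl N χ, fun g => ?_, ?_⟩
  · rw [infl_apply]
    exact hχ g
  · exact charDegree_eq_of_one (by rw [infl_apply]; rfl)

theorem RSet_finite (G : Type u) [Group G] [Finite G] : (RSet G).Finite := by
  have h0 : Finite (IrrCharacter G) := Core.finite_irr
  have h1 : RSet G ⊆ Set.range fun χ : IrrCharacter G => charDegree (χ : G → ℂ) := by
    rintro n ⟨χ, -, rfl⟩
    exact ⟨χ, rfl⟩
  exact (Set.finite_range _).subset h1

theorem one_mem_RSet (G : Type u) [Group G] [Finite G] : 1 ∈ RSet G := by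
  have h1 := Linear.isIrrCharacter_hom (1 : G →* ℂˣ)
  refine ⟨⟨_, h1⟩, fun g => ?_, ?_⟩
  · simp
  · have h2 := charDegree_irr (⟨_, h1⟩ : IrrCharacter G)
    have h3 : ((charDegree (((⟨_, h1⟩ : IrrCharacter G)) : G → ℂ) : ℕ) : ℂ) = ((1 : ℕ) : ℂ) := by
      rw [h2]
      simp
    exact_mod_cast h3

/-- **The reduction.** -/
theorem main (hS : ∀ (S : Type u) [Group S] [Finite S] [IsSimpleGroup S], ¬ IsMulCommutative S → Row S) :
    ∀ (n : ℕ) (G : Type u) [Group G] [Finite G], Nat.card G = n → Nat.card (RSet G) ≤ 3 → Group.IsSolvable G := by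
  intro n
  induction n using Nat.strong_induction_on with
  | _ n ih =>
  intro G _ _ hG h3
  classical
  by_contra hns
  -- proper quotients are solvable
  have hquot : ∀ N : Subgroup G, ∀ _ : N.Normal, N ≠ ⊥ → Group.IsSolvable (G ⧸ N) := by
    intro N hN hNb
    have hlt : Nat.card (G ⧸ N) < n := by
      rw [← hG, Subgroup.card_eq_card_quotient_mul_card_subgroup N]
      have h1 : 1 < Nat.card N := by
        rw [Subgroup.one_lt_card_iff_ne_bot]
        exact hNb
      exact lt_mul_of_one_lt_right Nat.card_pos h1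
    exact ih _ hlt (G ⧸ N) rfl ((Nat.card_mono (RSet_finite G) (RSet_quot N)).trans h3)
  -- a minimal normal subgroup
  have hnt : Nontrivial G := by
    by_contra hnt
    rw [not_nontrivial_iff_subsingleton] at hnt
    exact hns inferInstance
  obtain ⟨N, hN, hNb, hmin⟩ : ∃ N : Subgroup G, N.Normal ∧ N ≠ ⊥ ∧
      ∀ K : Subgroup G, K.Normal → K ≤ N → K = ⊥ ∨ K = N := by
    have hne : ({K : Subgroup G | K.Normal ∧ K ≠ ⊥}).Nonempty :=
      ⟨⊤, inferInstance, top_ne_bot⟩
    obtain ⟨N, hN⟩ := (Set.toFinite {K : Subgroup G | K.Normal ∧ K ≠ ⊥}).exists_minimal hne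
    refine ⟨N, hN.1.1, hN.1.2, fun K hK hle => ?_⟩
    by_cases hKb : K = ⊥
    · exact Or.inl hKb
    · exact Or.inr (le_antisymm hle (hN.2 ⟨hK, hKb⟩ hle))
  have hsN := hquot N hN hNb
  by_cases hab : ∀ a ∈ N, ∀ b ∈ N, a * b = b * a
  · apply hns
    have h1 : Group.IsSolvable N := Group.isSolvable_of_comm fun a b => Subtype.ext (hab a a.2 b b.2)
    exact Group.isSolvable_of_ker_le_range N.subtype (QuotientGroup.mk' N) (by
      rw [QuotientGroup.ker_mk', Subgroup.range_subtype])
  obtain ⟨S, hSN, hNS, hsimple, hSna, hle, hcj⟩ := exists_factor N hNb hmin hab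
  obtain ⟨T, hT⟩ : ∃ T, T = Subgroup.normalizer (S : Set G) := ⟨_, rfl⟩
  have hST : S ≤ T := hT ▸ Subgroup.le_normalizer
  have hCT : Subgroup.centralizer (S : Set G) ≤ T := hT ▸ Subgroup.centralizer_le_normalizer _
  have hNT : N ≤ T := hT ▸ hNS
  obtain ⟨C', hC'⟩ : ∃ C', C' = (Subgroup.centralizer (S : Set G)).subgroupOf T := ⟨_, rfl⟩
  have hSn : (S.subgroupOf T).Normal := by
    subst hT
    infer_instance
  have hC'n : C'.Normal := by
    constructor
    intro c hc t
    rw [hC', Subgroup.mem_subgroupOf, Subgroup.mem_centralizer_iff] at hc ⊢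
    intro s hs
    have ht : (t : G) ∈ Subgroup.normalizer (S : Set G) := hT ▸ t.2
    rw [Subgroup.mem_normalizer_iff''] at ht
    have h3 := hc ((t : G)⁻¹ * s * t) ((ht s).1 hs)
    push_cast
    calc s * ((t : G) * c * (t : G)⁻¹) = t * (((t : G)⁻¹ * s * t) * c) * (t : G)⁻¹ := by group
      _ = t * (c * ((t : G)⁻¹ * s * t)) * (t : G)⁻¹ := by rw [h3]
      _ = t * c * (t : G)⁻¹ * s := by group
  have hScent : ∀ s ∈ S, s ∈ Subgroup.centralizer (S : Set G) → s = 1 := by
    intro s hs hsc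
    have h3 : (⟨s, hs⟩ : S) ∈ Subgroup.center S := by
      rw [Subgroup.mem_center_iff]
      intro t
      exact Subtype.ext (Subgroup.mem_centralizer_iff.1 hsc t t.2)
    rcases hsimple.eq_bot_or_eq_top_of_normal (Subgroup.center S) inferInstance with h4 | h4
    · rw [h4, Subgroup.mem_bot] at h3
      exact congrArg Subtype.val h3
    · exfalso
      apply hSna
      refine ⟨⟨fun a b => ?_⟩⟩
      have h5 : a ∈ Subgroup.center S := by rw [h4]; exact Subgroup.mem_top a
      exact (Subgroup.mem_center_iff.1 h5 b).symm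
  let φ : S →* T ⧸ C' := (QuotientGroup.mk' C').comp (Subgroup.inclusion hST)
  have hφ : ∀ s : S, φ s = QuotientGroup.mk (Subgroup.inclusion hST s) := fun s => rfl
  have hφinj : Function.Injective φ := by
    rw [injective_iff_map_eq_one]
    intro s hs
    rw [hφ, QuotientGroup.eq_one_iff, hC', Subgroup.mem_subgroupOf] at hs
    exact Subtype.ext (hScent s s.2 hs)
  have hrange : φ.range = (S.subgroupOf T).map (QuotientGroup.mk' C') := by
    ext x
    constructor
    · rintro ⟨s, rfl⟩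
      exact ⟨Subgroup.inclusion hST s, s.2, rfl⟩
    · rintro ⟨t, ht, rfl⟩
      exact ⟨⟨t, ht⟩, rfl⟩
  set N' := (S.subgroupOf T).map (QuotientGroup.mk' C') with hN'
  have hrn : N'.Normal := hSn.map _ (QuotientGroup.mk'_surjective C')
  have e : S ≃* N' := (MonoidHom.ofInjective hφinj).trans (MulEquiv.subgroupCongr hrange)
  -- the centraliser
  have hcent : Subgroup.centralizer (N' : Set (T ⧸ C')) = ⊥ := by
    rw [eq_bot_iff]
    intro x hx
    obtain ⟨t, rfl⟩ := QuotientGroup.mk_surjective x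
    rw [Subgroup.mem_bot, QuotientGroup.eq_one_iff, hC', Subgroup.mem_subgroupOf, Subgroup.mem_centralizer_iff]
    intro s hs
    have hs' : s ∈ S := hs
    have h1 := Subgroup.mem_centralizer_iff.1 hx (φ ⟨s, hs⟩) (by
      rw [SetLike.mem_coe, ← hrange]
      exact ⟨_, rfl⟩)
    rw [hφ, ← QuotientGroup.mk_mul, ← QuotientGroup.mk_mul, QuotientGroup.eq, hC', Subgroup.mem_subgroupOf] at h1
    have ht : (t : G) ∈ Subgroup.normalizer (S : Set G) := hT ▸ t.2
    rw [Subgroup.mem_normalizer_iff''] at ht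
    have h2 : ((((Subgroup.inclusion hST ⟨s, hs⟩) * t)⁻¹ * (t * Subgroup.inclusion hST ⟨s, hs⟩) : T) : G) ∈ S := by
      have h3 : ((((Subgroup.inclusion hST ⟨s, hs⟩) * t)⁻¹ * (t * Subgroup.inclusion hST ⟨s, hs⟩) : T) : G) =
          ((t : G)⁻¹ * s⁻¹ * t) * s := by
        show ((s : G) * t)⁻¹ * (t * s) = _
        group
      rw [h3]
      exact S.mul_mem ((ht s⁻¹).1 (S.inv_mem hs')) hs'
    have h4 := hScent _ h2 h1
    have h5 : ((s : G) * t)⁻¹ * (t * s) = 1 := h4
    exact inv_mul_eq_one.1 h5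
  -- solvable quotient
  have hsolv : Group.IsSolvable ((T ⧸ C') ⧸ N') := by
    let ρ : T →* (T ⧸ C') ⧸ N' := (QuotientGroup.mk' N').comp (QuotientGroup.mk' C')
    have hρ : Function.Surjective ρ := (QuotientGroup.mk'_surjective N').comp (QuotientGroup.mk'_surjective C')
    have hker : N.subgroupOf T ≤ ρ.ker := by
      intro x hx
      have h3 : S ⊔ Subgroup.centralizer (S : Set G) ≤ ρ.ker.map T.subtype := by
        refine sup_le ?_ ?_
        · intro s hs
          refine ⟨⟨s, hST hs⟩, ?_, rfl⟩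
          show (QuotientGroup.mk (QuotientGroup.mk (⟨s, hST hs⟩ : T) : T ⧸ C') : (T ⧸ C') ⧸ N') = 1
          rw [QuotientGroup.eq_one_iff]
          exact ⟨⟨s, hST hs⟩, hs, rfl⟩
        · intro c hc
          refine ⟨⟨c, hCT hc⟩, ?_, rfl⟩
          show (QuotientGroup.mk (QuotientGroup.mk (⟨c, hCT hc⟩ : T) : T ⧸ C') : (T ⧸ C') ⧸ N') = 1
          rw [(QuotientGroup.eq_one_iff (⟨c, hCT hc⟩ : T)).2 (by rw [hC']; exact hc)]
          rfl
      obtain ⟨y, hy, hyx⟩ := h3 (hle hx)
      have : y = x := Subtype.ext hyx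
      rwa [← this]
    have hNn : (N.subgroupOf T).Normal := inferInstance
    have h1 : Group.IsSolvable (T ⧸ N.subgroupOf T) := by
      let j : T →* G ⧸ N := (QuotientGroup.mk' N).comp T.subtype
      have hj : j.ker = N.subgroupOf T := by
        ext x
        rw [MonoidHom.mem_ker, Subgroup.mem_subgroupOf]
        exact QuotientGroup.eq_one_iff (x : G)
      have hinj : Function.Injective (QuotientGroup.lift (N.subgroupOf T) j hj.ge) :=
        by
        rw [← MonoidHom.ker_eq_bot_iff, eq_bot_iff]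
        intro x hx
        obtain ⟨y, rfl⟩ := QuotientGroup.mk_surjective x
        rw [Subgroup.mem_bot, QuotientGroup.eq_one_iff, ← hj]
        exact hx
      exact Group.isSolvable_of_isSolvable_injective hinj
    exact Group.isSolvable_of_surjective (f := QuotientGroup.lift (N.subgroupOf T) ρ hker)
      (QuotientGroup.lift_surjective_of_surjective _ _ hρ hker)
  obtain ⟨a, b, c, hab', hac, hbc, ha, hb, hc⟩ := hS S hSna (T ⧸ C') N' ⟨e⟩ hcent hsolv
  have hsN' : IsSimpleGroup N' := e.symm.isSimpleGroup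
  have hna' : ¬ IsMulCommutative N' := fun h => hSna ⟨⟨fun x y => e.injective (by
    rw [map_mul, map_mul]
    exact h.is_comm.comm _ _)⟩⟩
  have hT0 : T.index ≠ 0 := Subgroup.index_ne_zero_of_finite
  have key : ∀ d, RD (T ⧸ C') N' d → T.index * d ∈ RSet G ∧ T.index * d ≠ 1 := fun d hd =>
    ⟨RD_ind S T hT hcj C' hC' hd, fun h => hd.ne_one hna' (Nat.eq_one_of_mul_eq_one_left h)⟩
  have h4 : ({1, T.index * a, T.index * b, T.index * c} : Finset ℕ).card = 4 := by
    rw [Finset.card_insert_of_notMem, Finset.card_insert_of_notMem, Finset.card_insert_of_notMem,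
      Finset.card_singleton]
    · rw [Finset.mem_singleton]
      exact fun h => hbc (Nat.eq_of_mul_eq_mul_left (Nat.pos_of_ne_zero hT0) h)
    · rw [Finset.mem_insert, Finset.mem_singleton, not_or]
      exact ⟨fun h => hab' (Nat.eq_of_mul_eq_mul_left (Nat.pos_of_ne_zero hT0) h),
        fun h => hac (Nat.eq_of_mul_eq_mul_left (Nat.pos_of_ne_zero hT0) h)⟩
    · rw [Finset.mem_insert, Finset.mem_insert, Finset.mem_singleton, not_or, not_or]
      exact ⟨(key a ha).2.symm, (key b hb).2.symm, (key c hc).2.symm⟩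
  have h5 : ((({1, T.index * a, T.index * b, T.index * c} : Finset ℕ) : Set ℕ)) ⊆ RSet G := by
    intro x hx
    rw [Finset.mem_coe, Finset.mem_insert, Finset.mem_insert, Finset.mem_insert, Finset.mem_singleton] at hx
    rcases hx with rfl | rfl | rfl | rfl
    · exact one_mem_RSet G
    · exact (key a ha).1
    · exact (key b hb).1
    · exact (key c hc).1
  have h6 := Nat.card_mono (RSet_finite G) h5
  rw [Nat.card_coe_set_eq, Set.ncard_coe_finset, h4] at h6
  omega

/-- **S4554 follows from the rows.** -/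
theorem solvable_of_rows (hS : ∀ (S : Type u) [Group S] [Finite S] [IsSimpleGroup S], ¬ IsMulCommutative S → Row S)
    {G : Type u} [Group G] [Finite G] (h : Nat.card {n : ℕ // ∃ χ : Cfsg.IrrCharacter G,
      (∀ g : G, ((χ : G → ℂ) g).im = 0) ∧ Cfsg.charDegree (χ : G → ℂ) = n} ≤ 3) : Group.IsSolvable G :=
  main hS _ G rfl h

end Cfsg.Agent.H619.R4
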