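import Cfsg.Agent.H619.R4.Parity
import Cfsg.Agent.H619.R4.Red
import Cfsg.Agent.Transfer.TateComplement
import Cfsg.Agent.CharactersDeep.IndFun

/-!
# L1: a real irreducible character of odd degree not trivial on `N` (S4554, helper619)
-/

set_option autoImplicit false

namespace Cfsg.Agent.H619.R4

open Cfsg Cfsg.Agent.Characters Cfsg.Agent.Blocks Cfsg.Agent.H686.CharKit Cfsg.Agent.H612.Heredity
open scoped ComplexConjugate

universe u

/-- a nonabelian simple group is not a `p`-group -/
theorem not_isPGroup {N : Type*} [Group N] [Finite N] [IsSimpleGroup N] (hna : ¬ IsMulCommutative N) {p : ℕ}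
    [Fact p.Prime] : ¬ IsPGroup p N := by
  intro h
  have hnt := h.center_nontrivial
  rcases IsSimpleGroup.eq_bot_or_eq_top_of_normal (Subgroup.center N) inferInstance with h1 | h1
  · rw [h1] at hnt
    exact not_nontrivial (⊥ : Subgroup N) hnt
  · apply hna
    refine ⟨⟨fun a b => ?_⟩⟩
    have h5 : a ∈ Subgroup.center N := by rw [h1]; exact Subgroup.mem_top a
    exact (Subgroup.mem_center_iff.1 h5 b).symm

/-- **Tate**: a homomorphism of a Sylow subgroup to `ℤ/p` which is not trivial on `N ⊓ P`. -/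
theorem exists_hom {G : Type u} [Group G] [Finite G] {p : ℕ} [Fact p.Prime] (P : Sylow p G) (N : Subgroup G)
    [hN : N.Normal] [IsSimpleGroup N] (hna : ¬ IsMulCommutative N) (hp : p ∣ Nat.card N) :
    ∃ (δ : P →* Multiplicative (ZMod p)) (x : P), (x : G) ∈ N ∧ δ x ≠ 1 := by
  classical
  by_contra hcon
  push Not at hcon
  have hPle : (P : Subgroup G) ≤ N ⊔ (P : Subgroup G) := le_sup_right
  have hNle : N ≤ N ⊔ (P : Subgroup G) := le_sup_left
  set H := N ⊔ (P : Subgroup G) with hH
  have hMn : (N.subgroupOf H).Normal := inferInstance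
  obtain ⟨K, hK1, hK2, hK3⟩ := Transfer.TateComplement.exists_normal_complement (P.subtype hPle) (N.subgroupOf H)
    (by rw [Sylow.coe_subtype, ← Subgroup.subgroupOf_sup hNle hPle, Subgroup.subgroupOf_self]) (by
      intro δ x hx
      let e : P →* (P.subtype hPle : Sylow p H) :=
        { toFun := fun y => ⟨⟨(y : G), hPle y.2⟩, by
            show _ ∈ (P : Subgroup G).subgroupOf _
            rw [Subgroup.mem_subgroupOf]; exact y.2⟩
          map_one' := rfl
          map_mul' := fun _ _ => rfl }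
      have hxP : ((x : H) : G) ∈ (P : Subgroup G) := by
        have h1 : (x : H) ∈ (P : Subgroup G).subgroupOf H := x.2
        exact Subgroup.mem_subgroupOf.1 h1
      exact hcon (δ.comp e) ⟨_, hxP⟩ (Subgroup.mem_subgroupOf.1 hx))
  -- `K` is trivial or `N`
  have hKn : ((K.map H.subtype).subgroupOf N).Normal := by
    constructor
    intro k hk n
    rw [Subgroup.mem_subgroupOf] at hk ⊢
    obtain ⟨y, hy, hyk⟩ := hk
    refine ⟨⟨(n : G), hNle n.2⟩ * y * ⟨(n : G), hNle n.2⟩⁻¹, hK1.conj_mem y hy _, ?_⟩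
    show (n : G) * (y : G) * (n : G)⁻¹ = (n : G) * (k : G) * (n : G)⁻¹
    have : (y : G) = k := hyk
    rw [this]
  have hKN : K.map H.subtype ≤ N := by
    rintro _ ⟨y, hy, rfl⟩
    exact Subgroup.mem_subgroupOf.1 (hK2 hy)
  have hcard : Nat.card (K.map H.subtype) = Nat.card K :=
    Nat.card_congr (K.equivMapOfInjective _ H.subtype_injective).symm.toEquiv
  rcases IsSimpleGroup.eq_bot_or_eq_top_of_normal ((K.map H.subtype).subgroupOf N) hKn with h1 | h1
  · -- `H` is a `p`-group
    have h2 : K.map H.subtype = ⊥ := by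
      rw [Subgroup.subgroupOf_eq_bot] at h1
      exact (h1.mono_right le_rfl).eq_bot_of_le hKN |> fun h => h
    have h3 : Nat.card K = 1 := by rw [← hcard, h2, Subgroup.card_bot]
    have h4 : Nat.card (P.subtype hPle : Sylow p H) = Nat.card H := by
      have := hK3.card_mul_card
      rw [h3, one_mul] at this
      exact this
    have h5 : ((P.subtype hPle : Sylow p H) : Subgroup H) = ⊤ := Subgroup.eq_top_of_card_eq _ h4
    have h6 : IsPGroup p H := by
      have h7 := (P.subtype hPle : Sylow p H).2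
      intro g
      have hg : g ∈ ((P.subtype hPle : Sylow p H) : Subgroup H) := by rw [h5]; exact Subgroup.mem_top g
      obtain ⟨k, hk⟩ := h7 ⟨g, hg⟩
      exact ⟨k, congrArg Subtype.val hk⟩
    refine not_isPGroup (p := p) hna ?_
    intro n
    obtain ⟨k, hk⟩ := h6 ⟨(n : G), hNle n.2⟩
    refine ⟨k, Subtype.ext ?_⟩
    have h8 := congrArg (fun z : H => (z : G)) hk
    simpa using h8
  · have h2 : Nat.card K = Nat.card N := by
      rw [← hcard]
      rw [Subgroup.subgroupOf_eq_top] at h1
      rw [le_antisymm hKN h1]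
    have h3 : ((P.subtype hPle : Sylow p H) : Subgroup H).index = Nat.card K := hK3.index_eq_card
    have h4 := (P.subtype hPle : Sylow p H).not_dvd_index
    rw [h3, h2] at h4
    exact h4 hp

/-- the sign character of the group of order two -/
def sgn2 : Multiplicative (ZMod 2) →* ℤˣ where
  toFun z := if z = 1 then 1 else -1
  map_one' := by decide
  map_mul' := by decide

theorem sgn2_ne {z : Multiplicative (ZMod 2)} (hz : z ≠ 1) : sgn2 z = -1 := by
  show (if z = 1 then (1 : ℤˣ) else -1) = -1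
  rw [if_neg hz]

theorem sum_eq_zero_of_neg {P : Type*} [Group P] [Fintype P] (F : P → ℂ) (x : P) (h : ∀ y, F (x * y) = - F y) :
    ∑ y, F y = 0 := by
  have h1 := Equiv.sum_comp (Equiv.mulLeft x) F
  rw [Finset.sum_congr rfl fun y _ => (show F (Equiv.mulLeft x y) = - F y from h y), Finset.sum_neg_distrib] at h1
  linear_combination (-h1) / 2

/-- **L1.** -/
theorem real_odd {G : Type u} [Group G] [Finite G] (N : Subgroup G)
    [hN : N.Normal] [IsSimpleGroup N] (hna : ¬ IsMulCommutative N) (h2 : 2 ∣ Nat.card N) : ∃ d, Odd d ∧ RD G N d := by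
  classical
  have : Fact (Nat.Prime 2) := ⟨Nat.prime_two⟩
  have := Fintype.ofFinite G
  obtain ⟨P⟩ : Nonempty (Sylow 2 G) := inferInstance
  have := Fintype.ofFinite (P : Subgroup G)
  obtain ⟨δ, x, hxN, hx⟩ := exists_hom P N hna h2
  -- the linear character
  set f : (P : Subgroup G) →* ℂˣ := (Units.map (Int.castRingHom ℂ).toMonoidHom).comp (sgn2.comp δ) with hf
  have hfv : ∀ y : (P : Subgroup G), ((f y : ℂˣ) : ℂ) = (((sgn2 (δ y) : ℤˣ) : ℤ) : ℂ) := fun y => rfl
  set lam : ↥(P : Subgroup G) → ℂ := fun y => (f y : ℂ) with hlam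
  have hirr : IsIrrCharacter (P : Subgroup G) lam := Linear.isIrrCharacter_hom f
  have hlr : ∀ y, (lam y).im = 0 := by
    intro y
    rw [hlam]
    simp only [hfv, Complex.intCast_im]
  have hlx : ∀ y : (P : Subgroup G), lam (x * y) = - lam y := by
    intro y
    show ((f (x * y) : ℂˣ) : ℂ) = -((f y : ℂˣ) : ℂ)
    rw [map_mul, Units.val_mul, hfv x, sgn2_ne hx]
    simp
  have hchar := CharactersDeep.IndFun.isCharacter_indFun (P : Subgroup G) (Core.isIrr_isCharacter hirr)
  have hone : indFun (P : Subgroup G) lam 1 = ((P : Subgroup G).index : ℂ) := by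
    rw [indFun_one (P : Subgroup G) lam]
    have h1 : lam 1 = 1 := by
      show ((f 1 : ℂˣ) : ℂ) = 1
      rw [map_one, Units.val_one]
    rw [h1, mul_one]
  have hodd : Odd (P : Subgroup G).index := by
    rw [← Nat.not_even_iff_odd, even_iff_two_dvd]
    exact P.not_dvd_index
  obtain ⟨χ, hχr, hχo, k, hk, hkc⟩ := exists_real_odd (Λ := indFun (P : Subgroup G) lam)
    ⟨_, 0, hchar, Core.isCharacter_zero, by rw [sub_zero]⟩ (real_indFun _ _ hlr)
    ⟨((P : Subgroup G).index : ℤ), by exact_mod_cast hodd, by rw [hone]; simp⟩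
  refine ⟨_, hχo, χ, hχr, ?_, rfl⟩
  by_contra hcon
  push Not at hcon
  have h3 := CharactersDeep.IndFun.classInner_indFun (P : Subgroup G) lam (χ : G → ℂ) (Core.isIrr_isClassFunction χ.2)
  rw [hkc] at h3
  have h4 : classInner lam (fun h : (P : Subgroup G) => (χ : G → ℂ) h) = 0 := by
    rw [Core.classInner_def]
    rw [sum_eq_zero_of_neg (fun y : (P : Subgroup G) => lam y * conj ((χ : G → ℂ) y)) x fun y => ?_, mul_zero]
    show lam (x * y) * conj ((χ : G → ℂ) ((x * y : ↥(P : Subgroup G)) : G)) = - (lam y * conj ((χ : G → ℂ) y))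
    rw [hlx, neg_mul, Subgroup.coe_mul, apply_mul_of_eq (Core.isIrr_isCharacter χ.2) (hcon x hxN) (y : G)]
  rw [h4] at h3
  have h5 : k = 0 := by exact_mod_cast h3
  rw [h5] at hk
  exact absurd hk (by decide)

end Cfsg.Agent.H619.R4
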