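import Cfsg.Agent.H619.R4.MathieuA
import Cfsg.Agent.S2061
import Cfsg.Agent.S0371
import Cfsg.Agent.SporadicA.M24Gens
import Cfsg.Agent.H710.R4.OutTwo

/-!
# Row `M12` (S4554, helper619)

`M12` is 4-transitive. If `|G : N| = 2` then the elements of order 11 are real in `G`; the characters of degree 11 and 55
of `M12` extend or give real characters of degree 22, 110.
-/

set_option autoImplicit false

open Cfsg

namespace Cfsg.Agent.H619.R4

open Cfsg.Agent.H852.IMMathieu Cfsg.Agent.SporadicA
open scoped ComplexConjugate Pointwise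

universe u

namespace MTwelve

/-- multiplication by 2 -/
def u2 : (ZMod 23)ˣ := ⟨2, 12, by decide, by decide⟩

def u5 : (ZMod 23)ˣ := ⟨5, 14, by decide, by decide⟩

theorem isSquare_u2 : IsSquare u2 := ⟨u5, by decide⟩

def xp : Equiv.Perm GolayPt := Equiv.optionCongr (Units.mulLeft u2)

theorem xp_mem : xp ∈ M24 := Cfsg.Agent.S0371.result u2 isSquare_u2

theorem xp_dod : xp • Spor.squareDodecad = Spor.squareDodecad := by decide +kernel

theorem inv_dod : projInv • Spor.squareDodecad = Spor.squareDodecadᶜ := by decide +kernel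

theorem inv_inv' : projInv * projInv = 1 := by
  apply Equiv.ext
  intro p
  show projInv (projInv p) = p
  revert p
  decide +kernel

theorem inv_xp : projInv * xp * projInv⁻¹ = xp⁻¹ := by
  rw [mul_inv_eq_iff_eq_mul, eq_inv_mul_iff_mul_eq]
  apply Equiv.ext
  intro p
  show xp (projInv (xp p)) = projInv p
  revert p
  decide +kernel

theorem xp_pow : xp ^ 11 = 1 := by
  apply Equiv.ext
  intro p
  revert p
  decide +kernel

theorem smul_compl' (g : Equiv.Perm GolayPt) (d : Finset GolayPt) : g • dᶜ = (g • d)ᶜ := by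
  ext x
  rw [Finset.mem_compl, ← Finset.inv_smul_mem_iff, ← Finset.inv_smul_mem_iff, Finset.mem_compl]

theorem inv_compl : projInv • Spor.squareDodecadᶜ = Spor.squareDodecad := by
  rw [smul_compl', inv_dod, compl_compl]

theorem projInv_inv : projInv⁻¹ = projInv := inv_eq_of_mul_eq_one_right inv_inv'

theorem conj_mem {g : Equiv.Perm GolayPt} (hg : g ∈ Spor.M12) : projInv * g * projInv⁻¹ ∈ Spor.M12 := by
  have hp : projInv ∈ M24 := M24Gens.projInv_mem
  refine ⟨M24.mul_mem (M24.mul_mem hp hg.1) (M24.inv_mem hp), ?_⟩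
  have h1 : g • Spor.squareDodecad = Spor.squareDodecad := hg.2
  show (projInv * g * projInv⁻¹) • Spor.squareDodecad = Spor.squareDodecad
  rw [projInv_inv, mul_smul, inv_dod, mul_smul, smul_compl', h1, inv_compl]

/-- conjugation by `projInv` -/
noncomputable def τ : MulAut Spor.M12 where
  toFun g := ⟨projInv * g * projInv⁻¹, conj_mem g.2⟩
  invFun g := ⟨projInv * g * projInv⁻¹, conj_mem g.2⟩
  left_inv g := by
    apply Subtype.ext
    show projInv * (projInv * (g : Equiv.Perm GolayPt) * projInv⁻¹) * projInv⁻¹ = g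
    rw [projInv_inv]
    calc projInv * (projInv * (g : Equiv.Perm GolayPt) * projInv) * projInv
        = (projInv * projInv) * g * (projInv * projInv) := by group
      _ = g := by rw [inv_inv', one_mul, mul_one]
  right_inv g := by
    apply Subtype.ext
    show projInv * (projInv * (g : Equiv.Perm GolayPt) * projInv⁻¹) * projInv⁻¹ = g
    rw [projInv_inv]
    calc projInv * (projInv * (g : Equiv.Perm GolayPt) * projInv) * projInv
        = (projInv * projInv) * g * (projInv * projInv) := by group
      _ = g := by rw [inv_inv', one_mul, mul_one]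
  map_mul' a b := by
    apply Subtype.ext
    show projInv * ((a : Equiv.Perm GolayPt) * b) * projInv⁻¹ =
      (projInv * a * projInv⁻¹) * (projInv * b * projInv⁻¹)
    group

/-- the element of order 11 -/
def x : Spor.M12 := ⟨xp, xp_mem, xp_dod⟩

theorem orderOf_x : orderOf x = 11 := by
  have : Fact (Nat.Prime 11) := ⟨by norm_num⟩
  refine orderOf_eq_prime (Subtype.ext xp_pow) ?_
  intro h
  have := congrArg (fun g : Spor.M12 => (g : Equiv.Perm GolayPt) (some 1)) h
  revert this
  show xp (some 1) = some 1 → False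
  decide +kernel

theorem τ_x : τ x = x⁻¹ := Subtype.ext inv_xp

theorem card : Nat.card Spor.M12 = 95040 := Cfsg.Agent.H852.IMMathieu.card_M12

theorem rcs : RC Spor.M12 11 ∧ RC Spor.M12 55 := by
  classical
  have hfin : Finite Spor.M12 := Nat.finite_of_card_ne_zero (by rw [card]; norm_num)
  have := Fintype.ofFinite Spor.M12
  have hd : ∀ g ∈ Spor.M12, ∀ x ∈ (Spor.squareDodecad : Set GolayPt), g x ∈ (Spor.squareDodecad : Set GolayPt) :=
    fun g hg x hx => Cfsg.Agent.CoThreeStd.M12.smul_mem' hg hx
  let _ := actOn Spor.M12 (Spor.squareDodecad : Set GolayPt) hd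
  have h1 := trans_on Spor.M12 (Spor.squareDodecad : Set GolayPt) hd 5 (by
    intro x y hx hy
    obtain ⟨g, hg, -⟩ := Cfsg.Agent.S0384.result _ dod_mem x y hx hy
    exact ⟨((g : M24) : Equiv.Perm GolayPt), ⟨(g : M24).2, g.2⟩, hg⟩)
  have hn : Nat.card (Spor.squareDodecad : Set GolayPt) = 12 := by
    rw [Nat.card_coe_set_eq, Set.ncard_coe_finset, card_dod dod_mem]
  have h4 : MulAction.IsMultiplyPretransitive Spor.M12 (Spor.squareDodecad : Set GolayPt) 4 :=
    MulAction.isMultiplyPretransitive_of_le (n := 5) (by norm_num) (by omega)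
  have h2 : MulAction.IsMultiplyPretransitive Spor.M12 (Spor.squareDodecad : Set GolayPt) 2 :=
    MulAction.isMultiplyPretransitive_of_le (n := 4) (by norm_num) (by omega)
  obtain ⟨χ, hχr, hχd⟩ := two_real h2 (by omega)
  obtain ⟨⟨α, hαr, hαd⟩, -⟩ := four_real (G := Spor.M12) (Spor.squareDodecad : Set GolayPt) (by omega)
  rw [hn] at hχd hαd
  exact ⟨RC.of_conj hχr (by rw [hχd]), RC.of_conj hαr (by rw [hαd])⟩

end MTwelve

/-- **M12** -/
theorem row_m12 {S : Type u} [Group S] [IsSimpleGroup S] (hna : ¬ IsMulCommutative S) (h : Spor.IsoM12 S) : Row S := by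
  classical
  obtain ⟨f⟩ := h
  have hcS : Nat.card S = 95040 := (Nat.card_congr f.toEquiv).trans MTwelve.card
  have hfin : Finite S := Nat.finite_of_card_ne_zero (by rw [hcS]; norm_num)
  have hout : (MulAut.conj : S →* MulAut S).range.index = 2 := (index_congr f).trans Cfsg.Agent.S2061.result
  refine row_two (by rw [hout]) (fun G _ _ N _ _ hN g => ?_) fun G _ _ N _ e hC hN => ?_
  · refine R3_perm_four Spor.M12 (Spor.squareDodecad : Set GolayPt) ?_ 5 ?_ (by norm_num) (n := 12) ?_ (by norm_num)
      (by norm_num) (fun a b => hN ▸ Subgroup.mem_top _) (g.symm.trans f)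
    · intro g hg x hx
      exact Cfsg.Agent.CoThreeStd.M12.smul_mem' hg hx
    · intro x y hx hy
      obtain ⟨g, hg, -⟩ := Cfsg.Agent.S0384.result _ dod_mem x y hx hy
      exact ⟨((g : M24) : Equiv.Perm GolayPt), ⟨(g : M24).2, g.2⟩, hg⟩
    · rw [Nat.card_coe_set_eq, Set.ncard_coe_finset, card_dod dod_mem]
  · have hc : ∀ a b : G, a * b * a⁻¹ * b⁻¹ ∈ N := comm_of_index (by rw [hN])
    have hcG : Nat.card G = 190080 := by
      rw [← N.card_mul_index, hN, ← Nat.card_congr e.toEquiv, hcS]
    -- the elements of order 11 are real in `G`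
    let τS : MulAut S := (MulAut.congr f.symm) MTwelve.τ
    obtain ⟨g, hg⟩ := (H710.R4.toAut_bijective N e (by rw [hout]) hN hC).surjective τS
    let s : S := f.symm MTwelve.x
    have hτ : τS s = s⁻¹ := by
      show f.symm (MTwelve.τ (f.symm.symm (f.symm MTwelve.x))) = (f.symm MTwelve.x)⁻¹
      rw [MulEquiv.symm_symm, MulEquiv.apply_symm_apply, MTwelve.τ_x, map_inv]
    have hx : orderOf ((e s : N) : G) = 11 := by
      rw [Subgroup.orderOf_coe, MulEquiv.orderOf_eq, MulEquiv.orderOf_eq, MTwelve.orderOf_x]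
    have hinv : IsConj ((e s : N) : G) ((e s : N) : G)⁻¹ := by
      rw [isConj_iff]
      refine ⟨g, ?_⟩
      rw [← H710.R4.toAut_apply N e g s, hg, hτ, map_inv]
      rfl
    obtain ⟨b, hb, hpb, hRb⟩ := H90.R4.Prime.prime_even (p := 11) (by norm_num) (by norm_num)
      (by rw [hcG]; norm_num) hx hinv N (commutator_le_of hc)
    obtain ⟨h11, h55⟩ := MTwelve.rcs
    obtain ⟨k, hk, hRk⟩ := rd_of_odd hna e (h11.congr f.symm) (by decide) (by norm_num)
    obtain ⟨m, hm, hRm⟩ := rd_of_odd hna e (h55.congr f.symm) (by decide) (by norm_num)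
    rw [hN, Nat.dvd_prime Nat.prime_two] at hk hm
    rcases hk with rfl | rfl
    · refine ⟨1 * 11, b, m * 55, ?_, ?_, ?_, hRk, hRb, hRm⟩
      · rintro rfl
        exact absurd hb (by decide)
      · rcases hm with rfl | rfl <;> norm_num
      · rintro rfl
        exact hpb (Dvd.dvd.mul_left (by norm_num) m)
    · have hs : IsSimpleGroup N := (MulEquiv.isSimpleGroup_congr e).1 inferInstance
      obtain ⟨d, hd, hRd⟩ := real_odd N (fun h => hna
        ⟨⟨fun x y => e.injective (by rw [map_mul, map_mul]; exact h.is_comm.comm _ _)⟩⟩)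
        (by rw [← Nat.card_congr e.toEquiv, hcS]; norm_num)
      refine ⟨2 * 11, b, d, ?_, ?_, ?_, hRk, hRb, hRd⟩
      · rintro rfl
        exact hpb (by norm_num)
      · rintro rfl
        exact absurd hd (by decide)
      · rintro rfl
        exact (Nat.not_even_iff_odd.2 hd) hb

end Cfsg.Agent.H619.R4
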