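import Cfsg.Agent.H619.R4.RankReal

/-!
# Rank 3 actions of a normal subgroup (S4554, helper619)

* `R3_extend` : the group `Q` has rank 3 on `X` with different subdegrees, `G` acts on `X` and contains (the action of)
  `Q` as a normal subgroup: `G` has rank 3 too;
* `act_of_perm` : `Q ≤ Sym(X)` with trivial centralizer and all automorphisms induced by `Sym(X)`.
-/

set_option autoImplicit false
set_option linter.unusedSectionVars false

open Cfsg

namespace Cfsg.Agent.H619.R4

open Cfsg.Agent.H690.Spor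

universe u v

theorem R3_extend {G : Type*} [Group G] {X : Type*} [MulAction G X] {Q : Type*} [Group Q] [MulAction Q X]
    (i : Q → G) (hi : ∀ q (x : X), i q • x = q • x)
    (hn : ∀ (g : G) (q : Q), ∃ q' : Q, ∀ x : X, (g * i q * g⁻¹) • x = q' • x) {R : X → X → Prop} {k l : ℕ}
    (h : RankThree.R3 Q X R k l) (hkl : k ≠ l) : RankThree.R3 G X R k l := by
  classical
  have hcn := h.cardn
  have hfin : Finite X := by
    by_contra hcon
    rw [not_finite_iff_infinite] at hcon
    rw [Nat.card_eq_zero_of_infinite] at hcn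
    omega
  have := Fintype.ofFinite X
  refine ⟨⟨fun x y => ?_⟩, h.symm, h.irr, ?_, ?_, ?_, h.cardk, h.k0, h.l0, h.cardn⟩
  · obtain ⟨q, hq⟩ := h.trans.exists_smul_eq x y
    exact ⟨i q, by rw [hi, hq]⟩
  · intro g x y hxy
    by_contra hcon
    -- the set of the `y` with `R (g x) (g y)`
    have hcardS : Nat.card {y // R (g • x) (g • y)} = k := by
      rw [← h.cardk (g • x)]
      exact Nat.card_congr ((MulAction.toPerm g).subtypeEquiv fun y => Iff.rfl)
    have hmove : ∀ y' z : X, (∃ q : Q, q • x = x ∧ q • y' = z) → R (g • x) (g • y') → R (g • x) (g • z) := by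
      rintro y' z ⟨q, hqx, hqy⟩ hR
      obtain ⟨q', hq'⟩ := hn g q
      have h1 : q' • g • x = g • x := by
        rw [← hq', mul_smul, mul_smul, inv_smul_smul, hi, hqx]
      have h2 : q' • g • y' = g • z := by
        rw [← hq', mul_smul, mul_smul, inv_smul_smul, hi, hqy]
      rw [← h1, ← h2]
      exact h.inv q' _ _ hR
    have hA : ∀ z, R x z → ¬ R (g • x) (g • z) := fun z hz hR => by
      obtain ⟨q, h1, h2⟩ := h.one x z x y hz hxy
      exact hcon (hmove z y ⟨q, h1, h2⟩ hR)
    obtain ⟨⟨y1, hy1⟩⟩ : Nonempty {y // R (g • x) (g • y)} := by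
      rw [← Finite.card_pos_iff, hcardS]
      exact h.k0
    have hy1x : y1 ≠ x := by
      rintro rfl
      exact h.irr _ hy1
    have hy1R : ¬ R x y1 := fun h1 => hA y1 h1 hy1
    have hS : ∀ y, R (g • x) (g • y) ↔ (y ≠ x ∧ ¬ R x y) := by
      intro y
      constructor
      · intro hR
        refine ⟨?_, fun h1 => hA y h1 hR⟩
        rintro rfl
        exact h.irr _ hR
      · rintro ⟨h1, h2⟩
        obtain ⟨q, h3, h4⟩ := h.two x y1 x y hy1x.symm hy1R h1.symm h2
        exact hmove y1 y ⟨q, h3, h4⟩ hy1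
    have hB : Nat.card {y // y ≠ x ∧ ¬ R x y} = k := by
      rw [← hcardS]
      exact Nat.card_congr (Equiv.subtypeEquivRight fun y => (hS y).symm)
    have h1 : (Finset.univ.filter fun y => R x y).card = k := by
      rw [← h.cardk x, Nat.card_eq_fintype_card, Fintype.card_subtype]
    have h2 : (Finset.univ.filter fun y => y ≠ x ∧ ¬ R x y).card = k := by
      rw [← hB, Nat.card_eq_fintype_card, Fintype.card_subtype]
    have h3 : (Finset.univ.filter fun y => R x y).card + (Finset.univ.filter fun y => ¬ R x y).card =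
        Fintype.card X := Finset.card_filter_add_card_filter_not _
    have h4 : (Finset.univ.filter fun y => ¬ R x y) = insert x (Finset.univ.filter fun y => y ≠ x ∧ ¬ R x y) := by
      ext y
      rw [Finset.mem_filter, Finset.mem_insert, Finset.mem_filter]
      constructor
      · rintro ⟨-, h5⟩
        by_cases h6 : y = x
        · exact Or.inl h6
        · exact Or.inr ⟨Finset.mem_univ _, h6, h5⟩
      · rintro (rfl | ⟨-, -, h5⟩)
        · exact ⟨Finset.mem_univ _, h.irr _⟩
        · exact ⟨Finset.mem_univ _, h5⟩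
    rw [h4, Finset.card_insert_of_notMem (by simp), h1, h2, ← Nat.card_eq_fintype_card, hcn] at h3
    omega
  · intro x y x' y' h1 h2
    obtain ⟨q, h3, h4⟩ := h.one x y x' y' h1 h2
    exact ⟨i q, by rw [hi, h3], by rw [hi, h4]⟩
  · intro x y x' y' h1 h2 h3 h4
    obtain ⟨q, h5, h6⟩ := h.two x y x' y' h1 h2 h3 h4
    exact ⟨i q, by rw [hi, h5], by rw [hi, h6]⟩

/-- **Rank 3 of an almost simple group.** -/
theorem act_of_perm {G : Type*} [Group G] {N : Subgroup G} [N.Normal]
    (hC : Subgroup.centralizer (N : Set G) = ⊥) {X : Type*} {Q : Subgroup (Equiv.Perm X)}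
    (hQc : Subgroup.centralizer (Q : Set (Equiv.Perm X)) = ⊥)
    (hact : ∀ σ : MulAut Q, ∃ p : Equiv.Perm X, ∀ x : Q, ((σ x : Q) : Equiv.Perm X) = p * x * p⁻¹) (e : Q ≃* N)
    {R : X → X → Prop} {k l : ℕ} (h : RankThree.R3 Q X R k l) (hkl : k ≠ l) :
    ∃ _ : MulAction G X, RankThree.R3 G X R k l := by
  obtain ⟨F, hF, hx, hg⟩ := exists_act hC hQc hact e
  letI : MulAction G X := MulAction.compHom X F
  refine ⟨inferInstance, R3_extend (fun q => (e q : G)) (fun q x => ?_) (fun g q => ?_) h hkl⟩
  · show F (e q : G) x = q • x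
    rw [hx q]
    rfl
  · refine ⟨e.symm (MulAut.conjNormal g (e q)), fun x => ?_⟩
    show F (g * (e q : G) * g⁻¹) x = ((e.symm (MulAut.conjNormal g (e q)) : Q) : Equiv.Perm X) x
    rw [hg g q, map_mul, map_mul, map_inv, hx q]

end Cfsg.Agent.H619.R4
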