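import Cfsg.Agent.H619.R4.RankTab
import Cfsg.Agent.H619.R4.RankExt
import Cfsg.Agent.H852.IMMathieu2
import Cfsg.Agent.KFacts.MM.OutAut
import Cfsg.Agent.S2062
import Cfsg.Agent.H710.R4.OutTwo

/-!
# Row `M22` (S4554, helper619)

The automorphism group of `M22` acts on the 77 hexads with rank 3: real characters of degree 21 and 55.
-/

set_option autoImplicit false

open Cfsg

namespace Cfsg.Agent.H619.R4

open Cfsg.Agent.H852.IMMathieu Cfsg.Agent.J4Type.Aut22 Cfsg.Agent.KFacts.MM.OutAut
open scoped Pointwise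

universe u

theorem hexad_smul {g : Equiv.Perm GolayPt} (hg : g ∈ D22) {o : Finset GolayPt} (ho : o ∈ XH) : g • o ∈ XH := by
  rw [mem_D22_iff] at hg
  obtain ⟨hg1, hg2⟩ := hg
  refine ⟨smul_oct hg1 ho.1, ?_⟩
  rcases hg2 with ⟨h1, h2⟩ | ⟨h1, h2⟩
  · exact ⟨(mem_smul_fix h1 o).2 ho.2.1, (mem_smul_fix h2 o).2 ho.2.2⟩
  · constructor
    · have h3 : g • (some 0 : GolayPt) ∈ g • o := Finset.smul_mem_smul_finset ho.2.2
      rwa [show g • (some 0 : GolayPt) = none from h2] at h3
    · have h3 : g • (none : GolayPt) ∈ g • o := Finset.smul_mem_smul_finset ho.2.1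
      rwa [show g • (none : GolayPt) = some 0 from h1] at h3

/-- **M22** -/
theorem row_m22 {S : Type u} [Group S] (hE : H612.Even.EvenOver S) (h : Spor.IsoM22 S) : Row S := by
  classical
  obtain ⟨f⟩ := h
  have hcM : Nat.card Spor.M22 = 443520 := Cfsg.Agent.SporadicA.MathieuRecog.card_M22
  have hcS : Nat.card S = 443520 := (Nat.card_congr f.toEquiv).trans hcM
  have hout : (MulAut.conj : S →* MulAut S).range.index = 2 := (index_congr f).trans Cfsg.Agent.S2062.result
  intro G _ _ N _ ⟨e⟩ hC _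
  have hi : N.index ≤ 2 := index_le e hC (by rw [hout])
  have hc : ∀ a b : G, a * b * a⁻¹ * b⁻¹ ∈ N := comm_of_index hi
  have h0 : N.index ≠ 0 := Subgroup.index_ne_zero_of_finite
  have hcG : Nat.card G = 443520 * N.index := by
    rw [← N.card_mul_index, ← Nat.card_congr e.toEquiv, hcS]
  -- the action
  let F : G →* Equiv.Perm GolayPt := (emb.comp (MulAut.congr f).toMonoidHom).comp (H710.R4.toAut N e)
  have hF : ∀ g, F g ∈ D22 := by
    intro g
    rw [← emb_range]
    exact ⟨_, rfl⟩
  have hFN : ∀ s : S, F (e s : G) = f s := by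
    intro s
    show emb (MulAut.congr f (H710.R4.toAut N e (e s : G))) = f s
    have h1 : MulAut.congr f (MulAut.conj s) = MulAut.conj (f s) := by
      apply MulEquiv.ext
      intro q
      show f (s * f.symm q * s⁻¹) = f s * q * (f s)⁻¹
      rw [map_mul, map_mul, map_inv, f.apply_symm_apply]
    rw [H710.R4.toAut_coe N e s, h1, emb_conj]
  letI : MulAction G (Finset GolayPt) := MulAction.compHom _ F
  letI : MulAction G XH := actSub XH fun g o ho => hexad_smul (hF g) ho
  letI : MulAction Spor.M22 XH := actSub XH hXH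
  have hR := R3_extend (G := G) (X := XH) (Q := Spor.M22) (fun q => (e (f.symm q) : G)) (fun q x => by
    apply Subtype.ext
    show F (e (f.symm q) : G) • (x : Finset GolayPt) = (q : Equiv.Perm GolayPt) • (x : Finset GolayPt)
    rw [hFN, f.apply_symm_apply]) (fun g q => by
    let n : N := ⟨g * (e (f.symm q) : G) * g⁻¹, (inferInstance : N.Normal).conj_mem _ (e (f.symm q)).2 g⟩
    refine ⟨f (e.symm n), fun x => ?_⟩
    apply Subtype.ext
    show F (g * (e (f.symm q) : G) * g⁻¹) • (x : Finset GolayPt) =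
      ((f (e.symm n) : Spor.M22) : Equiv.Perm GolayPt) • (x : Finset GolayPt)
    rw [← hFN, e.apply_symm_apply]) r3_hexads (by norm_num)
  obtain ⟨h21, h55⟩ := rc_m22 hR (by
    rw [hcG]
    have h1 : N.index = 1 ∨ N.index = 2 := by omega
    rcases h1 with h1 | h1 <;> rw [h1] <;> norm_num)
  exact R3.of_odd hE e hi (a := 21) (b := 55) (by decide) (by decide) (by norm_num) (h21.rd hc (by norm_num))
    (h55.rd hc (by norm_num))

end Cfsg.Agent.H619.R4
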