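import Cfsg.Agent.H619.R4.SporBase
import Cfsg.Agent.H852.IMMathieu
import Cfsg.Agent.S2060
import Cfsg.Agent.S2063
import Cfsg.Agent.S2064

/-!
# Rows `M11`, `M23`, `M24` (S4554, helper619)
-/

set_option autoImplicit false

open Cfsg

namespace Cfsg.Agent.H619.R4

open Cfsg.Agent.H852.IMMathieu

universe u

theorem R3_of_equiv_four {G : Type u} [Group G] [Finite G] {N : Subgroup G} [N.Normal]
    (hc : ∀ a b : G, a * b * a⁻¹ * b⁻¹ ∈ N) {Q : Type*} [Group Q] {X : Type*} [MulAction Q X] [Finite X]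
    (h4 : MulAction.IsMultiplyPretransitive Q X 4) (h5 : 5 ≤ Nat.card X) (e : G ≃* Q) : R3 G N := by
  letI : MulAction G X := MulAction.compHom X e.toMonoidHom
  have h4' : MulAction.IsMultiplyPretransitive G X 4 := by
    rw [MulAction.isMultiplyPretransitive_iff] at h4 ⊢
    intro x y
    obtain ⟨q, hq⟩ := h4 x y
    refine ⟨e.symm q, ?_⟩
    ext i
    have := congrArg (fun z => z i) hq
    show e (e.symm q) • x i = y i
    rw [e.apply_symm_apply]
    exact this
  exact R3_of_four hc h4' h5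

/-- permutation groups `k`-transitive on an invariant set, `4 ≤ k` -/
theorem R3_perm_four {Ω : Type*} [Finite Ω] (H : Subgroup (Equiv.Perm Ω)) (d : Set Ω)
    (hd : ∀ g ∈ H, ∀ x ∈ d, g x ∈ d)
    (k : ℕ) (h : ∀ x y : Fin k ↪ Ω, (∀ i, x i ∈ d) → (∀ i, y i ∈ d) → ∃ g ∈ H, ∀ i, g (x i) = y i)
    (hk : 4 ≤ k) {n : ℕ} (hn : Nat.card d = n) (hkn : k ≤ n) (h5 : 5 ≤ n) {G : Type u} [Group G] [Finite G]
    {N : Subgroup G} [N.Normal] (hc : ∀ a b : G, a * b * a⁻¹ * b⁻¹ ∈ N) (e : G ≃* H) : R3 G N := by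
  let _ := actOn H d hd
  have h1 := trans_on H d hd k h
  have h2 : MulAction.IsMultiplyPretransitive H d 4 :=
    MulAction.isMultiplyPretransitive_of_le (n := k) hk (by omega)
  exact R3_of_equiv_four hc h2 (by omega) e

/-- **M11** -/
theorem row_m11 {S : Type u} [Group S] (h : Spor.IsoM11 S) : Row S := by
  obtain ⟨e⟩ := h
  refine row_one ((index_congr e).trans Cfsg.Agent.S2060.result) fun G _ _ N _ _ hN g => ?_
  refine R3_perm_four Spor.M11 ((Spor.squareDodecad : Set GolayPt) \ {some 0}) ?_ 4 ?_ le_rfl (n := 11) ?_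
    (by norm_num) (by norm_num) (fun a b => hN ▸ Subgroup.mem_top _) (g.symm.trans e)
  · intro g hg x hx
    refine ⟨Cfsg.Agent.CoThreeStd.M12.smul_mem' hg.1 hx.1, fun h1 => hx.2 ?_⟩
    have h2 : g (some 0) = some 0 := hg.2
    exact g.injective ((show g x = some 0 from h1).trans h2.symm)
  · intro x y hx hy
    have hinj : ∀ z : Fin 4 ↪ GolayPt, (∀ i, z i ∈ (Spor.squareDodecad : Set GolayPt) \ {some 0}) →
        Function.Injective (Fin.cons (some 0) z : Fin 5 → GolayPt) := by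
      intro z hz
      rw [Fin.cons_injective_iff]
      refine ⟨?_, z.injective⟩
      rintro ⟨i, hi⟩
      exact (hz i).2 hi
    have hmem : ∀ z : Fin 4 ↪ GolayPt, (∀ i, z i ∈ (Spor.squareDodecad : Set GolayPt) \ {some 0}) →
        ∀ i, (Fin.cons (some 0) z : Fin 5 → GolayPt) i ∈ Spor.squareDodecad := by
      intro z hz i
      refine Fin.cases ?_ (fun j => ?_) i
      · exact zero_mem
      · exact (hz j).1
    obtain ⟨g, hg, -⟩ := Cfsg.Agent.S0384.result _ dod_mem ⟨_, hinj x hx⟩ ⟨_, hinj y hy⟩ (hmem x hx) (hmem y hy)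
    exact ⟨((g : M24) : Equiv.Perm GolayPt), ⟨⟨(g : M24).2, g.2⟩, hg 0⟩, fun i => hg i.succ⟩
  · rw [Nat.card_coe_set_eq, Set.ncard_sdiff_singleton_of_mem (by exact zero_mem), Set.ncard_coe_finset,
      card_dod dod_mem]

/-- **M23** -/
theorem row_m23 {S : Type u} [Group S] (h : Spor.IsoM23 S) : Row S := by
  obtain ⟨e⟩ := h
  refine row_one ((index_congr e).trans Cfsg.Agent.S2063.result) fun G _ _ N _ _ hN g => ?_
  refine R3_perm_four Spor.M23 {x | x ≠ none} ?_ 4 ?_ le_rfl (n := 23) ?_ (by norm_num) (by norm_num)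
    (fun a b => hN ▸ Subgroup.mem_top _) (g.symm.trans e)
  · intro g hg x hx h1
    have h2 : g none = none := hg.2
    exact hx (g.injective (h1.trans h2.symm))
  · intro x y hx hy
    have hinj : ∀ z : Fin 4 ↪ GolayPt, (∀ i, z i ∈ {x : GolayPt | x ≠ none}) →
        Function.Injective (Fin.cons none z : Fin 5 → GolayPt) := by
      intro z hz
      rw [Fin.cons_injective_iff]
      refine ⟨?_, z.injective⟩
      rintro ⟨i, hi⟩
      exact hz i hi
    obtain ⟨g, hg⟩ := Cfsg.Agent.SporadicStructure.M23Index253.exists_map Cfsg.Agent.S0366.result le_rfl _ _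
      (hinj x hx) (hinj y hy)
    exact ⟨(g : Equiv.Perm GolayPt), ⟨g.2, hg 0⟩, fun i => hg i.succ⟩
  · have h1 : ({x | x ≠ none} : Set GolayPt) = Set.univ \ {none} := by
      ext x
      simp
    rw [Nat.card_coe_set_eq, h1, Set.ncard_sdiff_singleton_of_mem (Set.mem_univ _), Set.ncard_univ,
      Nat.card_eq_fintype_card]
    decide

/-- **M24** -/
theorem row_m24 {S : Type u} [Group S] (h : Spor.IsoM24 S) : Row S := by
  obtain ⟨e⟩ := h
  refine row_one ((index_congr e).trans Cfsg.Agent.S2064.result) fun G _ _ N _ _ hN g => ?_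
  have h5 := Cfsg.Agent.S0366.result
  have h24 : Nat.card GolayPt = 24 := by
    rw [Nat.card_eq_fintype_card]
    decide
  have h4 : MulAction.IsMultiplyPretransitive M24 GolayPt 4 :=
    MulAction.isMultiplyPretransitive_of_le (n := 5) (by norm_num) (by rw [h24]; norm_num)
  exact R3_of_equiv_four (fun a b => hN ▸ Subgroup.mem_top _) h4 (by rw [h24]; norm_num) (g.symm.trans e)

end Cfsg.Agent.H619.R4
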