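import Cfsg.Agent.H619.R4.OutPerm
import Cfsg.Agent.H619.R4.RankTab
import Cfsg.Agent.SporadicRecognition.McLAssemble
import Cfsg.Agent.H997.OutMcL
import Cfsg.Agent.S2073

/-!
# Row `McL` (S4554, helper619)

The rank 3 action of degree 275 extends to the automorphism group: two real characters of even degrees 22, 252.
-/

set_option autoImplicit false
set_option linter.unusedSectionVars false

open Cfsg

namespace Cfsg.Agent.H619.R4.McL

open MulAction Cfsg.Agent.SporadicRecognition.RankThree Cfsg.Agent.SporadicRecognition.RankThreeOf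
  Cfsg.Agent.SporadicRecognition.McLAssemble Cfsg.Agent.SporadicRecognition.HSRank
  Cfsg.Agent.SporadicRecognition.TwoEmb Cfsg.Agent.SporadicRecognition.HSParam
open Cfsg.Agent.H690.Spor Cfsg.Agent.Leech.Co0Elts

local notation "𝓊" => (-Spor.leechV : leechLattice)
local notation "𝓋" => (Spor.leechU : leechLattice)

/-- the 275 points -/
def Xm : Set ↥leechLattice := {x : ↥leechLattice | sqNorm (x : GolayPt → ℤ) = 32 ∧
    sqNorm ((𝓊 - x) : GolayPt → ℤ) = 32 ∧ dotInt (𝓋 : GolayPt → ℤ) (x : GolayPt → ℤ) = 16}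

theorem hXm : ∀ g ∈ K 𝓊 𝓋, ∀ x ∈ Xm, g • x ∈ Xm := by
  rintro g ⟨hgu, hgv⟩ x ⟨hx1, hx2, hx3⟩
  refine ⟨?_, ?_, ?_⟩
  · rw [sqNorm_smul]; exact hx1
  · have h3 := sqNorm_smul g (𝓊 - x)
    have h4 : g • (𝓊 - x) = 𝓊 - g • x := by
      rw [sub_eq_add_neg, smul_add_co0 g 𝓊 (-x), smul_neg_co0 g x, show g • 𝓊 = 𝓊 from hgu,
        ← sub_eq_add_neg]
    rw [h4] at h3
    exact h3.trans hx2
  · have := dotInt_smul g 𝓋 x
    rw [show g • 𝓋 = 𝓋 from hgv] at this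
    rw [this]; exact hx3

theorem hK' : K Spor.leechV Spor.leechU = K 𝓊 𝓋 := k_neg _ _

theorem facts : IsSimpleGroup ↥(K 𝓊 𝓋) ∧ Nat.card ↥(K 𝓊 𝓋) = 898128000 := by
  obtain ⟨hs, hc⟩ := Cfsg.Agent.S0404.result _ _ norm_U norm_W dot_UW
  have hK : K (-Spor.leechV) Spor.leechU = K Spor.leechU (-(Spor.leechV + Spor.leechU)) := by
    rw [← k_neg, k_eq']
  change IsSimpleGroup ↥(K Spor.leechU (-(Spor.leechV + Spor.leechU))) at hs
  change Nat.card ↥(K Spor.leechU (-(Spor.leechV + Spor.leechU))) = 898128000 at hc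
  rw [← hK] at hs hc
  exact ⟨hs, hc⟩

theorem r3 : letI := act (K 𝓊 𝓋) Xm hXm; ∃ R, RankThree.R3 (K 𝓊 𝓋) Xm R 112 162 := by
  classical
  obtain ⟨h1, h2⟩ := Cfsg.Agent.S1580.result (-Spor.leechV) Spor.leechU norm_negV ⟨norm_U, norm_sub⟩
  have hS := fun x hx => Cfsg.Agent.S1581.result (-Spor.leechV) Spor.leechU x norm_negV ⟨norm_U, norm_sub⟩ hx
  change Xm.ncard = 275 at h1
  obtain ⟨x0, hx0⟩ : Xm.Nonempty := by
    rw [Set.nonempty_iff_ne_empty]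
    intro h
    rw [h, Set.ncard_empty] at h1
    norm_num at h1
  have hfinX : Xm.Finite := Set.finite_of_ncard_pos (by rw [h1]; norm_num)
  obtain ⟨h3, h4, h5⟩ := hS x0 hx0
  change {y | y ∈ Xm ∧ dotInt (x0 : GolayPt → ℤ) (y : GolayPt → ℤ) = 8}.ncard = 112 at h3
  change {y | y ∈ Xm ∧ y ≠ x0 ∧ dotInt (x0 : GolayPt → ℤ) (y : GolayPt → ℤ) = 16}.ncard = 162 at h4
  have hx00 : dotInt (x0 : GolayPt → ℤ) (x0 : GolayPt → ℤ) = 32 := by
    rw [← hx0.1]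
    exact Finset.sum_congr rfl fun i _ => (sq _).symm
  have hdich : ∀ y ∈ Xm, y ≠ x0 → dotInt (x0 : GolayPt → ℤ) (y : GolayPt → ℤ) = 8 ∨
      dotInt (x0 : GolayPt → ℤ) (y : GolayPt → ℤ) = 16 := by
    intro y hy hne
    set S8 : Set ↥leechLattice := {y | y ∈ Xm ∧ dotInt (x0 : GolayPt → ℤ) (y : GolayPt → ℤ) = 8} with hS8
    set S16 : Set ↥leechLattice := {y | y ∈ Xm ∧ y ≠ x0 ∧ dotInt (x0 : GolayPt → ℤ) (y : GolayPt → ℤ) = 16} with hS16
    have f8 : S8.Finite := hfinX.subset fun y hy => hy.1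
    have f16 : S16.Finite := hfinX.subset fun y hy => hy.1
    have hd : Disjoint S8 S16 := by
      rw [Set.disjoint_left]
      rintro z hz hz'
      have e1 := hz.2
      have e2 := hz'.2.2
      omega
    have hd' : x0 ∉ S8 ∪ S16 := by
      rintro (hz | hz)
      · have e1 := hz.2
        omega
      · exact hz.2.1 rfl
    have hU : insert x0 (S8 ∪ S16) = Xm := by
      apply Set.eq_of_subset_of_ncard_le _ _ hfinX
      · rintro z (rfl | hz | hz)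
        · exact hx0
        · exact hz.1
        · exact hz.1
      · rw [Set.ncard_insert_of_notMem hd' (f8.union f16), Set.ncard_union_eq hd f8 f16, h3, h4, h1]
    have hy' : y ∈ insert x0 (S8 ∪ S16) := by rw [hU]; exact hy
    rcases hy' with h6 | h6 | h6
    · exact absurd h6 hne
    · exact Or.inl h6.2
    · exact Or.inr h6.2.2
  letI := act (K 𝓊 𝓋) Xm hXm
  obtain ⟨b, c, hr⟩ := exists_isRankThree (K 𝓊 𝓋) Xm hXm (k := 112) (l := 162) (by rw [h1]) (by norm_num) (by norm_num)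
    (by norm_num) ⟨x0, hx0⟩ (fun y => dotInt (x0 : GolayPt → ℤ) (y : GolayPt → ℤ) = 8)
    (by
      intro x hx x' hx'
      obtain ⟨g, hg1, hg2, hg3⟩ := h2 x hx x' hx'
      exact ⟨g, ⟨hg1, hg2⟩, hg3⟩)
    (by
      intro g hg hg0 y hy
      have := dotInt_smul g x0 y
      rw [show g • x0 = x0 from hg0] at this
      rw [this]; exact hy)
    (by
      intro h
      have h7 : dotInt (x0 : GolayPt → ℤ) (x0 : GolayPt → ℤ) = 8 := h
      omega)
    h3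
    (by
      rw [← h4]
      congr 1
      ext y
      constructor
      · rintro ⟨hy, hne, h8⟩
        refine ⟨hy, hne, ?_⟩
        rcases hdich y hy hne with h9 | h9
        · exact absurd h9 h8
        · exact h9
      · rintro ⟨hy, hne, h8⟩
        refine ⟨hy, hne, ?_⟩
        intro h9
        have h9' : dotInt (x0 : GolayPt → ℤ) (y : GolayPt → ℤ) = 8 := h9
        omega)
    (by
      intro y hy y' hy' hne hne' h
      have h10 : dotInt (x0 : GolayPt → ℤ) (y : GolayPt → ℤ) = dotInt (x0 : GolayPt → ℤ) (y' : GolayPt → ℤ) := by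
        have h' : dotInt (x0 : GolayPt → ℤ) (y : GolayPt → ℤ) = 8 ↔ dotInt (x0 : GolayPt → ℤ) (y' : GolayPt → ℤ) = 8 := h
        rcases hdich y hy hne with h11 | h11 <;> rcases hdich y' hy' hne' with h12 | h12 <;> omega
      obtain ⟨g, hg1, hg2, hg3, hg4⟩ := h5 y hy y' hy' hne hne' h10
      exact ⟨g, ⟨hg1, hg2⟩, hg3, hg4⟩)
  haveI : Finite ↥Xm := hfinX.to_subtype
  exact ⟨_, RankThree.R3.of_orbits hr.trans hr.ne_b hr.ne_c hr.cb hr.cc hr.ne hr.cardX⟩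

/-! ### The outer automorphism -/

/-- The map of the 275 points. -/
def pm (f : ↥Co0) (x : ↥leechLattice) : ↥leechLattice := 𝓊 - f • x

theorem smul_sub' (f : ↥Co0) (x y : ↥leechLattice) : f • (x - y) = f • x - f • y := by
  rw [sub_eq_add_neg, smul_add_co0, smul_neg_co0, ← sub_eq_add_neg]

/-- `f` interchanges `𝓋` and `𝓊 - 𝓋` and fixes `𝓊` -/
structure Sw (f : ↥Co0) : Prop where
  u : f • 𝓊 = 𝓊
  v : f • 𝓋 = 𝓊 - 𝓋

theorem Sw.v' {f : ↥Co0} (h : Sw f) : f • (𝓊 - 𝓋) = 𝓋 := by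
  rw [smul_sub', h.u, h.v, sub_sub_cancel]

theorem Sw.inv {f : ↥Co0} (h : Sw f) : Sw f⁻¹ where
  u := by rw [inv_smul_eq_iff, h.u]
  v := by rw [inv_smul_eq_iff, h.v']

theorem dot_uv : dotInt (𝓋 : GolayPt → ℤ) (𝓊 : GolayPt → ℤ) = 24 := by
  show dotInt Spor.vecU (-Spor.vecV) = 24
  decide

theorem dot_sub (x y z : GolayPt → ℤ) : dotInt x (y - z) = dotInt x y - dotInt x z := by
  unfold dotInt
  rw [← Finset.sum_sub_distrib]
  exact Finset.sum_congr rfl fun i _ => by rw [Pi.sub_apply, mul_sub]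

theorem dot_self (x : GolayPt → ℤ) : dotInt x x = sqNorm x :=
  Finset.sum_congr rfl fun i _ => (sq _).symm

theorem dot_comm' (x y : GolayPt → ℤ) : dotInt x y = dotInt y x :=
  Finset.sum_congr rfl fun i _ => mul_comm _ _

theorem dot_ux {x : ↥leechLattice} (hx : x ∈ Xm) : dotInt (𝓊 : GolayPt → ℤ) (x : GolayPt → ℤ) = 24 := by
  obtain ⟨h1, h2, -⟩ := hx
  have h3 : sqNorm ((𝓊 : GolayPt → ℤ) - (x : GolayPt → ℤ)) = 48 - 2 * dotInt (𝓊 : GolayPt → ℤ) (x : GolayPt → ℤ) + 32 := by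
    rw [← dot_self, dot_sub, dot_comm' _ (𝓊 : GolayPt → ℤ), dot_comm' _ (x : GolayPt → ℤ), dot_sub, dot_sub,
      dot_self, dot_self, norm_negV, h1, dot_comm' (x : GolayPt → ℤ)]
    ring
  have h4 : sqNorm ((𝓊 : GolayPt → ℤ) - (x : GolayPt → ℤ)) = 32 := h2
  omega

theorem pm_mem {f : ↥Co0} (h : Sw f) {x : ↥leechLattice} (hx : x ∈ Xm) : pm f x ∈ Xm := by
  have hux := dot_ux hx
  obtain ⟨h1, h2, h3⟩ := hx
  refine ⟨?_, ?_, ?_⟩
  · have e : pm f x = f • (𝓊 - x) := by rw [smul_sub', h.u]; rfl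
    rw [e, sqNorm_smul]
    exact h2
  · have e : 𝓊 - pm f x = f • x := by rw [pm, sub_sub_cancel]
    show sqNorm (((𝓊 - pm f x : ↥leechLattice)) : GolayPt → ℤ) = 32
    rw [e, sqNorm_smul]
    exact h1
  · show dotInt (𝓋 : GolayPt → ℤ) ((𝓊 : GolayPt → ℤ) - ((f • x : ↥leechLattice) : GolayPt → ℤ)) = 16
    rw [dot_sub, dot_uv]
    have h4 := dotInt_smul f (𝓊 - 𝓋) x
    rw [h.v'] at h4
    rw [h4]
    have h5 : dotInt (((𝓊 - 𝓋 : ↥leechLattice)) : GolayPt → ℤ) (x : GolayPt → ℤ) =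
        dotInt (𝓊 : GolayPt → ℤ) (x : GolayPt → ℤ) - dotInt (𝓋 : GolayPt → ℤ) (x : GolayPt → ℤ) := by
      rw [dot_comm', show (((𝓊 - 𝓋 : ↥leechLattice)) : GolayPt → ℤ) = (𝓊 : GolayPt → ℤ) - (𝓋 : GolayPt → ℤ) from rfl,
        dot_sub, dot_comm' (x : GolayPt → ℤ) (𝓊 : GolayPt → ℤ), dot_comm' (x : GolayPt → ℤ)]
    rw [h5, hux, h3]
    norm_num

theorem pm_pm {f : ↥Co0} (h : Sw f) (x : ↥leechLattice) : pm f⁻¹ (pm f x) = x := by
  rw [pm, pm, smul_sub', h.inv.u, inv_smul_smul, sub_sub_cancel]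

theorem pm_pm' {f : ↥Co0} (h : Sw f) (x : ↥leechLattice) : pm f (pm f⁻¹ x) = x := by
  rw [pm, pm, smul_sub', h.u, smul_inv_smul, sub_sub_cancel]

/-- the permutation of the 275 points -/
def pe {f : ↥Co0} (h : Sw f) : Equiv.Perm Xm where
  toFun x := ⟨pm f x, pm_mem h x.2⟩
  invFun x := ⟨pm f⁻¹ x, pm_mem h.inv x.2⟩
  left_inv x := Subtype.ext (pm_pm h x)
  right_inv x := Subtype.ext (pm_pm' h x)

theorem conj_mem {f : ↥Co0} (h : Sw f) {g : ↥Co0} (hg : g ∈ K 𝓊 𝓋) : f * g * f⁻¹ ∈ K 𝓊 𝓋 := by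
  obtain ⟨h1, h2⟩ := hg
  have h1' : g • 𝓊 = 𝓊 := h1
  have h2' : g • 𝓋 = 𝓋 := h2
  refine ⟨?_, ?_⟩
  · show (f * g * f⁻¹) • 𝓊 = 𝓊
    rw [mul_smul, mul_smul, h.inv.u, h1', h.u]
  · show (f * g * f⁻¹) • 𝓋 = 𝓋
    rw [mul_smul, mul_smul, h.inv.v, smul_sub', h1', h2', h.v']

theorem pm_conj {f : ↥Co0} (h : Sw f) (g : ↥Co0) (hg : g • 𝓊 = 𝓊) (x : ↥leechLattice) :
    pm f (g • pm f⁻¹ x) = (f * g * f⁻¹) • x := by
  rw [pm, pm, smul_sub', hg, smul_sub', h.u, sub_sub_cancel, mul_smul, mul_smul]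

theorem exists_sw : ∃ f : ↥Co0, Sw f := by
  obtain ⟨f, h1, h2, h3, h4⟩ := Cfsg.Agent.H997.OutMcL.exists_swap
  refine ⟨⟨f, h1⟩, ?_, ?_⟩
  · show (⟨f, h1⟩ : ↥Co0) • (-Spor.leechV : ↥leechLattice) = -Spor.leechV
    rw [smul_neg_co0]
    congr 1
  · exact h3

open Cfsg.Agent.SporRec.Co3.Chain in
/-- The permutation is not induced by `McL`. -/
theorem pe_not {f : ↥Co0} (h : Sw f) (hfaith : letI := act (K 𝓊 𝓋) Xm hXm; FaithfulSMul (K 𝓊 𝓋) Xm) {k : ↥Co0}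
    (hk : k ∈ K 𝓊 𝓋) (hkp : ∀ x ∈ Xm, pm f x = k • x) : False := by
  have hku : k • 𝓊 = 𝓊 := hk.1
  have hkv : k • 𝓋 = 𝓋 := hk.2
  have hku' : k⁻¹ • 𝓊 = 𝓊 := by rw [inv_smul_eq_iff, hku]
  have hkv' : k⁻¹ • 𝓋 = 𝓋 := by rw [inv_smul_eq_iff, hkv]
  obtain ⟨c, hc⟩ : ∃ c : ↥Co0, c = k⁻¹ * f := ⟨_, rfl⟩
  have hcu : c • 𝓊 = 𝓊 := by rw [hc, mul_smul, h.u, hku']
  have hcv : c • 𝓋 = 𝓊 - 𝓋 := by rw [hc, mul_smul, h.v, smul_sub', hku', hkv']
  have hcw : c • (𝓊 - 𝓋) = 𝓋 := by rw [smul_sub', hcu, hcv, sub_sub_cancel]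
  have hcx : ∀ x ∈ Xm, c • x = 𝓊 - x := by
    intro x hx
    have h1 : f • x = 𝓊 - k • x := by
      have h2 := hkp x hx
      rw [pm] at h2
      rw [← h2, sub_sub_cancel]
    rw [hc, mul_smul, h1, smul_sub', hku', inv_smul_smul]
  -- an element of `K 𝓊 𝓋` trivial on `Xm`
  have htriv : ∀ g : ↥Co0, g ∈ K 𝓊 𝓋 → (∀ x ∈ Xm, g • x = x) → g = 1 := by
    intro g hg hgx
    letI := act (K 𝓊 𝓋) Xm hXm
    have h1 : (⟨g, hg⟩ : K 𝓊 𝓋) = 1 := by
      refine hfaith.eq_of_smul_eq_smul fun x => ?_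
      rw [one_smul]
      exact Subtype.ext (hgx x x.2)
    exact congrArg Subtype.val h1
  have hcinv : ∀ x ∈ Xm, c⁻¹ • x = 𝓊 - x := by
    intro x hx
    rw [inv_smul_eq_iff, smul_sub', hcu, hcx x hx, sub_sub_cancel]
  have hcom : ∀ g : ↥Co0, g ∈ K 𝓊 𝓋 → c * g = g * c := by
    intro g hg
    have hgu : g • 𝓊 = 𝓊 := hg.1
    have hgv : g • 𝓋 = 𝓋 := hg.2
    have hgu' : g⁻¹ • 𝓊 = 𝓊 := by rw [inv_smul_eq_iff, hgu]
    have hgv' : g⁻¹ • 𝓋 = 𝓋 := by rw [inv_smul_eq_iff, hgv]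
    have h1 : c * g * c⁻¹ * g⁻¹ = 1 := by
      refine htriv _ ⟨?_, ?_⟩ ?_
      · show (c * g * c⁻¹ * g⁻¹) • 𝓊 = 𝓊
        rw [mul_smul, mul_smul, mul_smul, hgu', show c⁻¹ • 𝓊 = 𝓊 by rw [inv_smul_eq_iff, hcu], hgu, hcu]
      · show (c * g * c⁻¹ * g⁻¹) • 𝓋 = 𝓋
        rw [mul_smul, mul_smul, mul_smul, hgv', show c⁻¹ • 𝓋 = 𝓊 - 𝓋 by rw [inv_smul_eq_iff, hcw], smul_sub', hgu, hgv, hcw]
      · intro x hx
        have hx' : g⁻¹ • x ∈ Xm := hXm g⁻¹ (inv_mem hg) x hx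
        rw [mul_smul, mul_smul, mul_smul, hcinv _ hx', smul_sub', hgu, smul_inv_smul, smul_sub', hcu, hcx x hx,
          sub_sub_cancel]
    rw [mul_inv_eq_one, mul_inv_eq_iff_eq_mul] at h1
    exact h1
  have hcc : c * c = 1 := by
    refine htriv _ ⟨?_, ?_⟩ ?_
    · show (c * c) • 𝓊 = 𝓊
      rw [mul_smul, hcu, hcu]
    · show (c * c) • 𝓋 = 𝓋
      rw [mul_smul, hcv, hcw]
    · intro x hx
      rw [mul_smul, hcx x hx, smul_sub', hcu, hcx x hx, sub_sub_cancel]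
  have hcV : c • (Spor.leechV : ↥leechLattice) = Spor.leechV := by
    have h1 := hcu
    rw [smul_neg_co0] at h1
    exact neg_injective h1
  refine Cfsg.Agent.H997.OutMcL.no_central (c := (⟨c, hcV⟩ : G3)) ?_ ?_ ?_
  · intro h1
    have h2 : c = 1 := congrArg Subtype.val h1
    have h3 : (𝓋 : ↥leechLattice) = 𝓊 - 𝓋 := by rw [← hcv, h2, one_smul]
    have h4 : dotInt (𝓋 : GolayPt → ℤ) (𝓋 : GolayPt → ℤ) = dotInt (𝓋 : GolayPt → ℤ) (𝓊 : GolayPt → ℤ) -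
        dotInt (𝓋 : GolayPt → ℤ) (𝓋 : GolayPt → ℤ) := by
      rw [← dot_sub]
      exact congrArg (fun z : ↥leechLattice => dotInt (𝓋 : GolayPt → ℤ) (z : GolayPt → ℤ)) h3
    rw [dot_uv, dot_self, norm_U] at h4
    norm_num at h4
  · exact Subtype.ext hcc
  · intro x hx
    obtain ⟨h0, h1, h2⟩ := Cfsg.Agent.H997.OutMcL.mem_McL.1 hx
    have h3 : (⟨x, h0⟩ : ↥Co0) ∈ K 𝓊 𝓋 := by
      rw [← hK']
      exact ⟨h1, h2⟩
    exact congrArg Subtype.val (hcom _ h3)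

end Cfsg.Agent.H619.R4.McL

namespace Cfsg.Agent.H619.R4

open MulAction Cfsg.Agent.SporadicRecognition.RankThreeOf Cfsg.Agent.SporadicRecognition.HSRank
open Cfsg.Agent.H690.Spor Cfsg.Agent.Leech.Co0Elts

universe u

/-- **McL** -/
theorem row_mcl {S : Type u} [Group S] [IsSimpleGroup S] (hna : ¬ IsMulCommutative S) (h : Spor.IsoMcL S) : Row S := by
  classical
  obtain ⟨f₀⟩ := h
  let f : S ≃* ↥(K (-Spor.leechV) Spor.leechU) :=
    f₀.trans ((kEquiv Spor.leechV Spor.leechU).trans (MulEquiv.subgroupCongr McL.hK'))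
  have hcS : Nat.card S = 898128000 := (Nat.card_congr f.toEquiv).trans McL.facts.2
  have hfin : Finite S := Nat.finite_of_card_ne_zero (by rw [hcS]; norm_num)
  have hout : (MulAut.conj : S →* MulAut S).range.index = 2 := (index_congr f₀).trans Cfsg.Agent.S2073.result
  letI : MulAction (K (-Spor.leechV) Spor.leechU) McL.Xm := act (K (-Spor.leechV) Spor.leechU) McL.Xm McL.hXm
  letI : MulAction S McL.Xm := MulAction.compHom McL.Xm f.toMonoidHom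
  obtain ⟨R, hR⟩ := McL.r3
  have hne : ∃ (g : K (-Spor.leechV) Spor.leechU) (x y : McL.Xm), g • x = y ∧ x ≠ y := by
    have hn := hR.cardn
    have hfX : Finite McL.Xm := Nat.finite_of_card_ne_zero (by rw [hn]; norm_num)
    have hnt : Nontrivial McL.Xm := by
      rw [← Finite.one_lt_card_iff_nontrivial, hn]
      norm_num
    obtain ⟨x, y, hxy⟩ := hnt
    obtain ⟨g, hg⟩ := hR.trans.exists_smul_eq x y
    exact ⟨g, x, y, hg, hxy⟩
  obtain ⟨g₀, x₀, y₀, hg₀, hxy₀⟩ := hne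
  have hfaith : FaithfulSMul (K (-Spor.leechV) Spor.leechU) McL.Xm := faithful_of_simple McL.facts.1 hg₀ hxy₀
  -- the action of `S`
  have hRS : RankThree.R3 S McL.Xm R 112 162 := by
    refine R3_extend (G := S) (Q := K (-Spor.leechV) Spor.leechU) (fun q => f.symm q) (fun q x => ?_) (fun g q => ?_) hR
      (by norm_num)
    · show f (f.symm q) • x = q • x
      rw [f.apply_symm_apply]
    · refine ⟨f g * q * (f g)⁻¹, fun x => ?_⟩
      show f (g * f.symm q * g⁻¹) • x = _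
      rw [map_mul, map_mul, map_inv, f.apply_symm_apply]
  have hinj : Function.Injective (MulAction.toPermHom S McL.Xm) := by
    intro a b hab
    apply f.injective
    refine hfaith.eq_of_smul_eq_smul fun x => ?_
    exact congrArg (fun p : Equiv.Perm McL.Xm => p x) hab
  obtain ⟨t, ht⟩ := McL.exists_sw
  intro G _ _ N _ ⟨e⟩ hC _
  have hi : N.index ≤ 2 := index_le e hC (by rw [hout])
  have hc : ∀ a b : G, a * b * a⁻¹ * b⁻¹ ∈ N := comm_of_index hi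
  have h0 : N.index ≠ 0 := Subgroup.index_ne_zero_of_finite
  have hcG : Nat.card G = 898128000 * N.index := by
    rw [← N.card_mul_index, ← Nat.card_congr e.toEquiv, hcS]
  have hs : IsSimpleGroup N := (MulEquiv.isSimpleGroup_congr e).1 inferInstance
  obtain ⟨iA, hRG⟩ := exists_R3 hout hRS (by norm_num) (by norm_num) (by norm_num) hinj (p := McL.pe ht) (fun s => by
    refine ⟨f.symm ⟨t * f s * t⁻¹, McL.conj_mem ht (f s).2⟩, fun x => ?_⟩
    apply Subtype.ext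
    show McL.pm t ((f s : Co0) • McL.pm t⁻¹ x) = ((f (f.symm ⟨t * f s * t⁻¹, McL.conj_mem ht (f s).2⟩) :
      ↥(K (-Spor.leechV) Spor.leechU)) : Co0) • (x : leechLattice)
    rw [f.apply_symm_apply, McL.pm_conj ht _ (f s).2.1]) (fun s => by
    refine ⟨f.symm ⟨t⁻¹ * f s * t⁻¹⁻¹, McL.conj_mem ht.inv (f s).2⟩, fun x => ?_⟩
    apply Subtype.ext
    show McL.pm t⁻¹ ((f s : Co0) • McL.pm t x) = ((f (f.symm ⟨t⁻¹ * f s * t⁻¹⁻¹, McL.conj_mem ht.inv (f s).2⟩) :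
      ↥(K (-Spor.leechV) Spor.leechU)) : Co0) • (x : leechLattice)
    rw [f.apply_symm_apply, ← McL.pm_conj ht.inv _ (f s).2.1, inv_inv]) (by
    rintro ⟨s, hs⟩
    refine McL.pe_not ht hfaith (f s).2 fun x hx => ?_
    exact congrArg Subtype.val (hs ⟨x, hx⟩)) hC e
  obtain ⟨h22, h252⟩ := rc_mcl hRG (by
    rw [hcG]
    have h1 : N.index = 1 ∨ N.index = 2 := by omega
    rcases h1 with h1 | h1 <;> rw [h1] <;> norm_num)
  refine R3.of_even (fun h => hna ?_) ?_ (a := 22) (b := 252) (by decide) (by decide) (by norm_num)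
    (h22.rd hc (by norm_num)) (h252.rd hc (by norm_num))
  · exact ⟨⟨fun x y => e.injective (by rw [map_mul, map_mul]; exact h.is_comm.comm _ _)⟩⟩
  · rw [← Nat.card_congr e.toEquiv, hcS]
    norm_num

end Cfsg.Agent.H619.R4
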