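import Cfsg.Agent.H619.R4.RankExt

/-!
# Outer automorphisms from permutations (S4554, helper619)

* `R3_cent` : a rank 3 group with subdegrees `1 < k, l` has trivial centralizer in the symmetric group;
* `exists_conj_of_index_two` : `|Out Q| = 2`, `p` normalises `Q`, `p ∉ Q`: all automorphisms of `Q` are induced.
* `exists_R3` : rank 3 for all almost simple groups.
-/

set_option autoImplicit false
set_option linter.unusedSectionVars false

open Cfsg

namespace Cfsg.Agent.H619.R4

open Cfsg.Agent.H690.Spor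

theorem R3_cent {Q X : Type*} [Group Q] [MulAction Q X] {R : X → X → Prop} {k l : ℕ} (h : RankThree.R3 Q X R k l)
    (hk : 1 < k) (hl : 1 < l) (c : X → X) (hc : ∀ (q : Q) (x : X), c (q • x) = q • c x) (x : X) : c x = x := by
  classical
  have hcn := h.cardn
  have hfin : Finite X := by
    by_contra hcon
    rw [not_finite_iff_infinite] at hcon
    rw [Nat.card_eq_zero_of_infinite] at hcn
    omega
  have := Fintype.ofFinite X
  by_contra hne
  have key : ∀ y' : X, (∃ q : Q, q • x = x ∧ q • c x = y') → y' = c x := by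
    rintro y' ⟨q, h1, h2⟩
    rw [← h2, ← hc, h1]
  by_cases hR : R x (c x)
  · have h1 : Nat.card {y // R x y} ≤ 1 := by
      have : Subsingleton {y // R x y} := by
        refine ⟨fun a b => Subtype.ext ?_⟩
        rw [key a (h.one x (c x) x a hR a.2), key b (h.one x (c x) x b hR b.2)]
      exact Finite.card_le_one_iff_subsingleton.2 this
    rw [h.cardk x] at h1
    omega
  · have h1 : (Finset.univ.filter fun y => R x y).card = k := by
      rw [← h.cardk x, Nat.card_eq_fintype_card, Fintype.card_subtype]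
    have h3 : (Finset.univ.filter fun y => R x y).card + (Finset.univ.filter fun y => ¬ R x y).card =
        Fintype.card X := Finset.card_filter_add_card_filter_not _
    have h4 : (Finset.univ.filter fun y => ¬ R x y) ⊆ {x, c x} := by
      intro y hy
      rw [Finset.mem_filter] at hy
      rw [Finset.mem_insert, Finset.mem_singleton]
      by_cases h5 : y = x
      · exact Or.inl h5
      · exact Or.inr (key y (h.two x (c x) x y (Ne.symm hne) hR (Ne.symm h5) hy.2))
    have h5 := (Finset.card_le_card h4).trans Finset.card_le_two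
    rw [h1, ← Nat.card_eq_fintype_card, hcn] at h3
    omega

theorem exists_conj_of_index_two {P : Type*} [Group P] {Q : Subgroup P}
    (hQc : Subgroup.centralizer (Q : Set P) = ⊥)
    (hout : (MulAut.conj : Q →* MulAut Q).range.index = 2) {p : P} (hp : p ∈ Subgroup.normalizer (Q : Set P))
    (hpQ : p ∉ Q) (σ : MulAut Q) : ∃ p' : P, ∀ x : Q, ((σ x : Q) : P) = p' * x * p'⁻¹ := by
  have hle : (MulAut.conj : Q →* MulAut Q).range ≤ (Subgroup.normalizerMonoidHom Q).range := by
    rintro _ ⟨q, rfl⟩
    refine ⟨⟨q, Subgroup.le_normalizer q.2⟩, ?_⟩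
    apply MulEquiv.ext
    intro x
    exact Subtype.ext rfl
  have h1 := Subgroup.relIndex_mul_index hle
  rw [hout] at h1
  have h2 : (MulAut.conj : Q →* MulAut Q).range.relIndex (Subgroup.normalizerMonoidHom Q).range ≠ 1 := by
    rw [Ne, Subgroup.relIndex_eq_one]
    intro hle'
    obtain ⟨q, hq⟩ := hle' ⟨⟨p, hp⟩, rfl⟩
    apply hpQ
    have h3 : (p : P) = q := by
      refine conj_uniq hQc fun x => ?_
      have h4 := congrArg (fun τ : MulAut Q => ((τ x : Q) : P)) hq
      exact h4.symm
    rw [h3]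
    exact q.2
  have h5 : (Subgroup.normalizerMonoidHom Q).range.index = 1 := by
    have h6 : (MulAut.conj : Q →* MulAut Q).range.relIndex (Subgroup.normalizerMonoidHom Q).range ∣ 2 := ⟨_, h1.symm⟩
    rcases (Nat.dvd_prime Nat.prime_two).1 h6 with h7 | h7
    · exact absurd h7 h2
    · rw [h7] at h1
      omega
  have h6 : σ ∈ (Subgroup.normalizerMonoidHom Q).range := by
    rw [Subgroup.index_eq_one.1 h5]
    exact Subgroup.mem_top _
  obtain ⟨p', rfl⟩ := h6
  exact ⟨p', fun x => rfl⟩

/-- **Rank 3 for all almost simple groups over `S`**, `|Out S| = 2`, given a permutation that normalises. -/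
theorem exists_R3 {S : Type*} [Group S] (hout : (MulAut.conj : S →* MulAut S).range.index = 2) {X : Type*}
    [MulAction S X] {R : X → X → Prop} {k l : ℕ} (h : RankThree.R3 S X R k l) (hk : 1 < k) (hl : 1 < l) (hkl : k ≠ l)
    (hf : Function.Injective (MulAction.toPermHom S X)) {p : Equiv.Perm X}
    (hp : ∀ s : S, ∃ s' : S, ∀ x, p (s • p.symm x) = s' • x)
    (hp' : ∀ s : S, ∃ s' : S, ∀ x, p.symm (s • p x) = s' • x)
    (hpS : ¬ ∃ s : S, ∀ x, p x = s • x) {G : Type*} [Group G] {N : Subgroup G} [N.Normal]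
    (hC : Subgroup.centralizer (N : Set G) = ⊥) (e : S ≃* N) : ∃ _ : MulAction G X, RankThree.R3 G X R k l := by
  let Q : Subgroup (Equiv.Perm X) := (MulAction.toPermHom S X).range
  let j : S ≃* Q := MonoidHom.ofInjective hf
  have hj : ∀ (s : S) (x : X), ((j s : Q) : Equiv.Perm X) x = s • x := fun s x => rfl
  have hQc : Subgroup.centralizer (Q : Set (Equiv.Perm X)) = ⊥ := by
    rw [eq_bot_iff]
    intro c hc
    rw [Subgroup.mem_bot]
    rw [Subgroup.mem_centralizer_iff] at hc
    refine Equiv.ext fun x => ?_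
    refine R3_cent h hk hl c (fun s y => ?_) x
    have h1 := congrArg (fun g : Equiv.Perm X => g y) (hc (j s) (j s).2)
    exact h1.symm
  have hQ3 : RankThree.R3 Q X R k l := by
    refine ⟨⟨fun x y => ?_⟩, h.symm, h.irr, ?_, ?_, ?_, h.cardk, h.k0, h.l0, h.cardn⟩
    · obtain ⟨s, hs⟩ := h.trans.exists_smul_eq x y
      exact ⟨j s, hs⟩
    · rintro ⟨_, s, rfl⟩ x y hxy
      exact h.inv s x y hxy
    · intro x y x' y' h1 h2
      obtain ⟨s, h3, h4⟩ := h.one x y x' y' h1 h2
      exact ⟨j s, h3, h4⟩
    · intro x y x' y' h1 h2 h3 h4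
      obtain ⟨s, h5, h6⟩ := h.two x y x' y' h1 h2 h3 h4
      exact ⟨j s, h5, h6⟩
  refine act_of_perm hC hQc (exists_conj_of_index_two hQc ((index_congr j).symm.trans hout) (p := p) ?_ ?_)
    (j.symm.trans e) hQ3 hkl
  · rw [Subgroup.mem_normalizer_iff]
    intro g
    constructor
    · rintro ⟨s, rfl⟩
      obtain ⟨s', hs'⟩ := hp s
      exact ⟨s', Equiv.ext fun x => (hs' x).symm⟩
    · rintro ⟨s, hs⟩
      obtain ⟨s', hs'⟩ := hp' s
      refine ⟨s', Equiv.ext fun x => ?_⟩
      have h1 : g = p⁻¹ * (p * g * p⁻¹) * p := by group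
      rw [h1, ← hs]
      exact (hs' x).symm
  · rintro ⟨s, hs⟩
    exact hpS ⟨s, fun x => by rw [← hs]; rfl⟩

end Cfsg.Agent.H619.R4
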