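import Cfsg.Agent.H619.R4.Defs

/-!
# Parity: real constituents of real characters of odd degree (S4554, helper619)

`exists_real_odd` : a real generalized character of odd degree has a real irreducible constituent of odd degree and
odd multiplicity.
-/

set_option autoImplicit false

namespace Cfsg.Agent.H619.R4

open Cfsg Cfsg.Agent.Characters Cfsg.Agent.Blocks Cfsg.Agent.H686.CharKit
open scoped ComplexConjugate

universe u

variable {G : Type u} [Group G]

/-- the complex conjugate character -/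
noncomputable def cbar [Finite G] (χ : IrrCharacter G) : IrrCharacter G := ⟨fun g => conj ((χ : G → ℂ) g), Core.isIrr_conj χ.2⟩

theorem cbar_apply [Finite G] (χ : IrrCharacter G) (g : G) : (cbar χ : G → ℂ) g = conj ((χ : G → ℂ) g) := rfl

theorem cbar_cbar [Finite G] (χ : IrrCharacter G) : cbar (cbar χ) = χ := by
  apply Subtype.ext
  funext g
  exact Complex.conj_conj _

theorem cbar_eq_iff [Finite G] (χ : IrrCharacter G) : cbar χ = χ ↔ ∀ g, ((χ : G → ℂ) g).im = 0 := by
  constructor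
  · intro h g
    exact Complex.conj_eq_iff_im.1 (by rw [← cbar_apply, h])
  · intro h
    apply Subtype.ext
    funext g
    exact Complex.conj_eq_iff_im.2 (h g)

theorem charDegree_cbar [Finite G] (χ : IrrCharacter G) : charDegree (cbar χ : G → ℂ) = charDegree (χ : G → ℂ) := by
  have h1 := charDegree_irr χ
  have h2 := charDegree_irr (cbar χ)
  rw [cbar_apply, ← h1, Complex.conj_natCast] at h2
  exact_mod_cast h2

theorem classInner_cbar [Fintype G] {Λ : G → ℂ} (hreal : ∀ g, (Λ g).im = 0) (χ : IrrCharacter G) :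
    classInner Λ (cbar χ : G → ℂ) = conj (classInner Λ (χ : G → ℂ)) := by
  rw [Core.classInner_def, Core.classInner_def, map_mul, map_inv₀, Complex.conj_natCast, map_sum]
  congr 1
  refine Finset.sum_congr rfl fun g _ => ?_
  rw [cbar_apply, map_mul, Complex.conj_conj, Complex.conj_eq_iff_im.2 (hreal g)]

theorem classInner_int [Fintype G] {Λ : G → ℂ} (hΛ : IsGeneralizedCharacter G Λ) (χ : IrrCharacter G) :
    ∃ k : ℤ, classInner Λ (χ : G → ℂ) = k := by
  obtain ⟨a, b, ha, hb, rfl⟩ := hΛ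
  obtain ⟨m, hm⟩ := Core.classInner_isNat ha (Core.isIrr_isCharacter χ.2)
  obtain ⟨n, hn⟩ := Core.classInner_isNat hb (Core.isIrr_isCharacter χ.2)
  refine ⟨m - n, ?_⟩
  rw [Core.classInner_sub_left, hm, hn]
  push_cast
  ring

theorem isClassFunction_of_gen {Λ : G → ℂ} (hΛ : IsGeneralizedCharacter G Λ) : IsClassFunction G Λ := by
  obtain ⟨a, b, ha, hb, rfl⟩ := hΛ
  intro g x
  rw [Pi.sub_apply, Pi.sub_apply, Core.isCharacter_isClassFunction ha g x, Core.isCharacter_isClassFunction hb g x]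

/-- **Parity.** -/
theorem exists_real_odd [Fintype G] {Λ : G → ℂ} (hΛ : IsGeneralizedCharacter G Λ) (hreal : ∀ g, (Λ g).im = 0)
    (hodd : ∃ k : ℤ, Odd k ∧ Λ 1 = k) : ∃ χ : IrrCharacter G, (∀ g, ((χ : G → ℂ) g).im = 0) ∧
      Odd (charDegree (χ : G → ℂ)) ∧ ∃ k : ℤ, Odd k ∧ classInner Λ (χ : G → ℂ) = k := by
  classical
  have hfin := Core.finite_irr (G := G)
  have := Fintype.ofFinite (IrrCharacter G)
  choose m hm using classInner_int hΛ
  obtain ⟨k, hk, hk1⟩ := hodd
  have h2 : k = ∑ χ : IrrCharacter G, m χ * (charDegree (χ : G → ℂ) : ℤ) := by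
    have h3 : Λ 1 = ((∑ χ : IrrCharacter G, m χ * (charDegree (χ : G → ℂ) : ℤ) : ℤ) : ℂ) := by
      conv_lhs => rw [Core.classFunction_eq_sum (isClassFunction_of_gen hΛ)]
      rw [Finset.sum_apply]
      push_cast
      refine Finset.sum_congr rfl fun χ _ => ?_
      rw [Pi.smul_apply, smul_eq_mul, hm, charDegree_irr]
    rw [hk1] at h3
    exact_mod_cast h3
  have h3 : (∑ χ : IrrCharacter G, ((m χ * (charDegree (χ : G → ℂ) : ℤ) : ℤ) : ZMod 2)) = 1 := by
    rw [← Int.cast_sum, ← h2]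
    obtain ⟨j, hj⟩ := hk
    rw [hj]
    push_cast
    have : (2 : ZMod 2) = 0 := by decide
    rw [this, zero_mul, zero_add]
  have hmc : ∀ χ, m (cbar χ) = m χ := by
    intro χ
    have h4 := classInner_cbar hreal χ
    rw [hm, hm, map_intCast] at h4
    exact_mod_cast h4
  rw [Cfsg.Agent.H611.EvenFixed.sum_eq_sum_fixed Finset.univ cbar (fun χ _ => cbar_cbar χ)
    (fun χ _ => Finset.mem_univ _) _ (fun χ _ => by rw [hmc, charDegree_cbar])] at h3
  obtain ⟨χ, hχ, hne⟩ := Finset.exists_ne_zero_of_sum_ne_zero (by rw [h3]; exact one_ne_zero)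
  rw [Finset.mem_filter] at hχ
  have h4 : Odd (m χ * (charDegree (χ : G → ℂ) : ℤ)) := by
    rw [← Int.not_even_iff_odd, even_iff_two_dvd]
    intro h5
    exact hne ((ZMod.intCast_zmod_eq_zero_iff_dvd _ 2).2 (by exact_mod_cast h5))
  rw [Int.odd_mul] at h4
  exact ⟨χ, (cbar_eq_iff χ).1 hχ.2, by exact_mod_cast h4.2, m χ, h4.1, hm χ⟩

end Cfsg.Agent.H619.R4
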