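import Cfsg.Agent.H690.Spor.RankThree

/-!
# Frame's theorem for rank 3 with the integrality condition (S4554, helper619; the proof is that of helper690)
-/

set_option autoImplicit false
set_option linter.unusedSectionVars false

namespace Cfsg.Agent.H690.Spor.RankThree.R3

open Cfsg Cfsg.Agent.Characters.Core Cfsg.Agent.H665.NoPQ Cfsg.Agent.H690.Spor.RankThree
open scoped ComplexConjugate

variable {G X : Type*} [Group G] [MulAction G X] {R : X → X → Prop} {k l : ℕ}
variable [Fintype X] [DecidableEq X] [DecidableRel R]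

/-- **Frame's theorem, rank 3**, with the parameter `β = λ - μ`. -/
theorem frame' [Finite G] (h : R3 G X R k l) : ∃ (χ₁ χ₂ : IrrCharacter G) (f g D : ℕ),
    (χ₁ : G → ℂ) 1 = f ∧ (χ₂ : G → ℂ) 1 = g ∧
    (∀ x : G, (Nat.card (MulAction.fixedBy X x) : ℂ) = 1 + (χ₁ : G → ℂ) x + (χ₂ : G → ℂ) x) ∧
    f + g = k + l ∧ f * g * D = (1 + k + l) * k * l ∧ (f ≠ g → ∃ β c : ℤ, (D : ℤ) = c ^ 2 ∧ β * (k + l) + 2 * k = (f - g) * c) := by
  have := Fintype.ofFinite G
  obtain ⟨a, b, hab⟩ := h.exists_params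
  have hp := h.params_eq hab
  have hn := h.cardn
  -- the discriminant
  set β : ℤ := (a : ℤ) - b with hβ
  set γ : ℤ := (k : ℤ) - b with hγ
  set N : ℤ := (k : ℤ) + l with hN
  have hpZ : (k : ℤ) * k = k + k * a + l * b := by exact_mod_cast hp
  have hI : (β ^ 2 + 4 * γ) * N ^ 2 = (β * N + 2 * k) ^ 2 + 4 * ((1 + k + l) * k * l) := by
    rw [hβ, hγ, hN]
    linear_combination (4 * ((k : ℤ) + l)) * hpZ
  have hk0 : (0 : ℤ) < k := by exact_mod_cast h.k0
  have hl0 : (0 : ℤ) < l := by exact_mod_cast h.l0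
  have hN0 : 0 < N := by omega
  have hpos : (0 : ℤ) < (1 + k + l) * k * l := by positivity
  have hD0 : 0 < β ^ 2 + 4 * γ := by
    have h1 : 0 < (β ^ 2 + 4 * γ) * N ^ 2 := by rw [hI]; nlinarith [sq_nonneg (β * N + 2 * k)]
    by_contra hcon
    push Not at hcon
    nlinarith [sq_nonneg N]
  obtain ⟨D, hD⟩ : ∃ D : ℕ, (D : ℤ) = β ^ 2 + 4 * γ := ⟨(β ^ 2 + 4 * γ).toNat, Int.toNat_of_nonneg hD0.le⟩
  obtain ⟨d, hd⟩ : ∃ d : ℂ, d * d = (D : ℂ) := by
    obtain ⟨d, hd⟩ := IsAlgClosed.exists_pow_nat_eq (D : ℂ) (n := 2) (by norm_num)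
    exact ⟨d, by rw [← hd]; ring⟩
  have hd0 : d ≠ 0 := by
    rintro rfl
    have h1 : (D : ℂ) = 0 := by rw [← hd]; ring
    have h2 : D = 0 := by exact_mod_cast h1
    rw [h2] at hD
    omega
  set r : ℂ := (β + d) / 2 with hr
  set s : ℂ := (β - d) / 2 with hs
  have hrs : r - s = d := by rw [hr, hs]; ring
  have hrs' : r ≠ s := sub_ne_zero.1 (by rw [hrs]; exact hd0)
  have hDC : (D : ℂ) = (β : ℂ) ^ 2 + 4 * γ := by exact_mod_cast congrArg (Int.cast : ℤ → ℂ) hD
  have h1 : r + s = a - b := by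
    rw [hr, hs, hβ]
    push_cast
    ring
  have h2 : r * s = b - k := by
    have h3 : r * s = ((β : ℂ) ^ 2 - d * d) / 4 := by rw [hr, hs]; ring
    rw [h3, hd, hDC, hγ]
    push_cast
    ring
  -- the characters
  have hchar : ∀ u v : ℂ, u ≠ v → u + v = a - b → u * v = b - k →
      IsCharacter G (fun g : G => ∑ x : X, ker R k (Nat.card X) u v x (g • x)) := by
    intro u v huv h3 h4
    exact Cfsg.Agent.H651.isCharacter_sum_perm (MulAction.toPermHom G X) (ker R k (Nat.card X) u v)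
      (h.ker_mul hab huv h3 h4) (fun g x y => h.ker_smul _ u v g x y)
  have hc1 := hchar r s hrs' h1 h2
  have hc2 := hchar s r hrs'.symm (by rw [add_comm]; exact h1) (by rw [mul_comm]; exact h2)
  set θ₁ : G → ℂ := fun g : G => ∑ x : X, ker R k (Nat.card X) r s x (g • x) with hθ₁
  set θ₂ : G → ℂ := fun g : G => ∑ x : X, ker R k (Nat.card X) s r x (g • x) with hθ₂
  have hnC : (Nat.card X : ℂ) ≠ 0 := by
    have : Nat.card X ≠ 0 := by omega
    exact_mod_cast this
  have hval : ∀ u v : ℂ, ∀ g : G, ∑ x : X, ker R k (Nat.card X) u v x (g • x) =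
      (u - v)⁻¹ * (∑ x : X, adj R x (g • x) - v * (Nat.card (MulAction.fixedBy X g) : ℂ) - (k - v)) := by
    intro u v g
    unfold ker
    rw [← Finset.mul_sum, Finset.sum_sub_distrib, Finset.sum_sub_distrib, ← Finset.mul_sum, sum_dia_smul,
      Finset.sum_const, Finset.card_univ, ← Nat.card_eq_fintype_card, nsmul_eq_mul]
    congr 2
    field_simp
  have hsum : (fun g : G => (Nat.card (MulAction.fixedBy X g) : ℂ) - 1) = θ₁ + θ₂ := by
    funext g
    show _ = θ₁ g + θ₂ g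
    rw [hθ₁, hθ₂]
    simp only [hval]
    have h3 : (s - r)⁻¹ = -(r - s)⁻¹ := by rw [← neg_sub, inv_neg]
    rw [h3]
    have h4 : (r - s)⁻¹ * (r - s) = 1 := inv_mul_cancel₀ (by rw [hrs]; exact hd0)
    linear_combination (-(Nat.card (MulAction.fixedBy X g) : ℂ) + 1) * h4
  have hnorm := h.norm_two (G := G)
  rw [hsum, classInner_add_left, classInner_add_right, classInner_add_right] at hnorm
  -- degrees
  have hone : ∑ x : X, adj R x ((1 : G) • x) = 0 := by
    refine Finset.sum_eq_zero fun x _ => ?_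
    unfold adj
    rw [one_smul, if_neg (h.irr x)]
  have hfix1 : Nat.card (MulAction.fixedBy X (1 : G)) = Nat.card X := by
    rw [MulAction.fixedBy_one_eq_univ]
    exact Nat.card_univ
  have hn' : (Nat.card X : ℂ) = 1 + k + l := by exact_mod_cast hn
  have hdeg1 : θ₁ 1 * d = -(s * (k + l) + k) := by
    rw [hθ₁]
    simp only [hval]
    rw [hone, hfix1, hn', hrs]
    have h4 : d⁻¹ * d = 1 := inv_mul_cancel₀ hd0
    linear_combination (0 - s * (1 + k + l) - (k - s)) * h4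
  have hdeg2 : θ₂ 1 * d = r * (k + l) + k := by
    rw [hθ₂]
    simp only [hval]
    have h3 : (s - r)⁻¹ = -d⁻¹ := by rw [← neg_sub, inv_neg, hrs]
    rw [hone, hfix1, hn', h3]
    have h4 : d⁻¹ * d = 1 := inv_mul_cancel₀ hd0
    linear_combination (0 - (0 - r * (1 + k + l) - (k - r))) * h4
  obtain ⟨f, hf⟩ := isCharacter_apply_one hc1
  obtain ⟨g, hg⟩ := isCharacter_apply_one hc2
  have hpC : (k : ℂ) * k = k + k * a + l * b := by exact_mod_cast hp
  have hprod : (f : ℂ) * g * D = (1 + k + l) * k * l := by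
    rw [← hd, ← hf, ← hg]
    have h5 : θ₁ 1 * θ₂ 1 * (d * d) = (θ₁ 1 * d) * (θ₂ 1 * d) := by ring
    rw [h5, hdeg1, hdeg2]
    linear_combination (-(k + l : ℂ) ^ 2) * h2 - (k : ℂ) * (k + l) * h1 + (k + l : ℂ) * hpC
  have hprodN : f * g * D = (1 + k + l) * k * l := by exact_mod_cast hprod
  have hfg : f + g = k + l := by
    have h3 : ((f + g : ℕ) : ℂ) * d = ((k + l : ℕ) : ℂ) * d := by
      push_cast
      rw [← hf, ← hg]
      linear_combination hdeg1 + hdeg2 + (k + l : ℂ) * hrs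
    have h4 := mul_right_cancel₀ hd0 h3
    exact_mod_cast h4
  have hprod0 : 0 < (1 + k + l) * k * l := by
    have := h.k0
    have := h.l0
    positivity
  have hf0 : f ≠ 0 := by
    rintro rfl
    rw [zero_mul, zero_mul] at hprodN
    omega
  have hg0 : g ≠ 0 := by
    rintro rfl
    rw [mul_zero, zero_mul] at hprodN
    omega
  -- norms
  obtain ⟨m11, hm11⟩ := classInner_isNat hc1 hc1
  obtain ⟨m12, hm12⟩ := classInner_isNat hc1 hc2
  obtain ⟨m21, hm21⟩ := classInner_isNat hc2 hc1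
  obtain ⟨m22, hm22⟩ := classInner_isNat hc2 hc2
  rw [hm11, hm12, hm21, hm22] at hnorm
  have hnormN : m11 + m12 + (m21 + m22) = 2 := by exact_mod_cast hnorm
  have h11 : m11 ≠ 0 := by
    rintro rfl
    have h3 := classInner_self_eq_zero (φ := θ₁) (by rw [hm11]; simp)
    rw [h3] at hf
    apply hf0
    have : (f : ℂ) = 0 := by rw [← hf]; rfl
    exact_mod_cast this
  have h22 : m22 ≠ 0 := by
    rintro rfl
    have h3 := classInner_self_eq_zero (φ := θ₂) (by rw [hm22]; simp)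
    rw [h3] at hg
    apply hg0
    have : (g : ℂ) = 0 := by rw [← hg]; rfl
    exact_mod_cast this
  have hm1 : m11 = 1 := by omega
  have hm2 : m22 = 1 := by omega
  have hi1 : IsIrrCharacter G θ₁ := isIrr_of_classInner_self hc1 (by rw [hm11, hm1]; simp)
  have hi2 : IsIrrCharacter G θ₂ := isIrr_of_classInner_self hc2 (by rw [hm22, hm2]; simp)
  refine ⟨⟨θ₁, hi1⟩, ⟨θ₂, hi2⟩, f, g, D, hf, hg, fun x => ?_, hfg, hprodN, fun hne => ?_⟩
  · have h3 := congrFun hsum x
    have h4 : (Nat.card (MulAction.fixedBy X x) : ℂ) - 1 = θ₁ x + θ₂ x := h3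
    show _ = 1 + θ₁ x + θ₂ x
    linear_combination h4
  · have h3 : ((f : ℂ) - g) * d = -(β * (k + l) + 2 * k) := by
      rw [← hf, ← hg]
      have h4 : (β : ℂ) = r + s := by rw [hr, hs]; ring
      rw [h4]
      linear_combination hdeg1 - hdeg2
    have h5 : ((f : ℂ) - g) ^ 2 * D = (β * (k + l) + 2 * k) ^ 2 := by
      rw [← hd]
      have : ((f : ℂ) - g) ^ 2 * (d * d) = (((f : ℂ) - g) * d) ^ 2 := by ring
      rw [this, h3]
      ring
    have h6 : ((f : ℤ) - g) ^ 2 * D = (β * (k + l) + 2 * k) ^ 2 := by exact_mod_cast h5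
    have h7 : ((f : ℤ) - g) ≠ 0 := by
      intro h8
      apply hne
      omega
    have h8 : ((f : ℤ) - g) ∣ (β * (k + l) + 2 * k) := by
      have h9 : ((f : ℤ) - g) ^ 2 ∣ (β * (k + l) + 2 * k) ^ 2 := ⟨_, h6.symm⟩
      exact (Int.pow_dvd_pow_iff (by norm_num)).1 h9
    obtain ⟨c, hc⟩ := h8
    have hc' := hc
    rw [hc, mul_pow] at h6
    have h10 : (D : ℤ) = c ^ 2 := mul_left_cancel₀ (pow_ne_zero 2 h7) h6
    exact ⟨β, c, h10, hc'⟩
end Cfsg.Agent.H690.Spor.RankThree.R3
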