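import Cfsg.Agent.H619.R4.SporBase
import Cfsg.Agent.H619.R4.RankFrame

/-!
# Real characters from actions of rank 3 (S4554, helper619)

* `real_pair` : the two constituents of different degrees, with the degrees from Frame's theorem and a finite check;
* `R3.extend` : `N ⊴ G`, `N` has rank 3 on the `G`-set `X` with different subdegrees: `G` too.
-/

set_option autoImplicit false
set_option linter.unusedSectionVars false

open Cfsg

namespace Cfsg.Agent.H619.R4

open Cfsg.Agent.Characters Cfsg.Agent.Characters.Core Cfsg.Agent.Blocks Cfsg.Agent.H686.CharKit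
open Cfsg.Agent.H690.Spor
open scoped ComplexConjugate

universe u v

/-- binary splitting -/
def rng (f : ℕ → Bool) : ℕ → ℕ → Bool
  | 0, s => f s
  | d + 1, s => rng f d s && rng f d (s + 2 ^ d)

theorem rng_spec {f : ℕ → Bool} : ∀ {d s : ℕ}, rng f d s = true → ∀ i, s ≤ i → i < s + 2 ^ d → f i = true
  | 0, s, h, i, h1, h2 => by
    have : i = s := by
      rw [pow_zero] at h2
      omega
    rw [this]
    exact h
  | d + 1, s, h, i, h1, h2 => by
    rw [rng, Bool.and_eq_true] at h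
    rcases lt_or_ge i (s + 2 ^ d) with h3 | h3
    · exact rng_spec h.1 i h1 h3
    · refine rng_spec h.2 i h3 ?_
      rw [pow_succ] at h2
      omega

/-- one candidate in Frame's equations -/
def cand (k l a f : ℕ) : Bool :=
  Nat.beq f 0 || Nat.beq f a || Nat.ble ((k + l) / 2 + 1) f ||
    !(Nat.beq (((1 + k + l) * k * l) % (f * (k + l - f))) 0) ||
      !(Nat.beq (Nat.sqrt (((1 + k + l) * k * l) / (f * (k + l - f))) *
        Nat.sqrt (((1 + k + l) * k * l) / (f * (k + l - f)))) (((1 + k + l) * k * l) / (f * (k + l - f)))) ||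
      !(Nat.beq (((k + l - f - f) * Nat.sqrt (((1 + k + l) * k * l) / (f * (k + l - f))) + 2 * k) % (k + l)) 0 ||
        Nat.beq (((k + l - f - f) * Nat.sqrt (((1 + k + l) * k * l) / (f * (k + l - f))) + 2 * l) % (k + l)) 0)

theorem cand_spec {k l a f g D : ℕ} (h : cand k l a f = true) (hfg : f + g = k + l) (hle : f ≤ g) (hf : f ≠ 0)
    (hprod : f * g * D = (1 + k + l) * k * l)
    (hD : ∃ β c : ℤ, (D : ℤ) = c ^ 2 ∧ (β * (k + l) + 2 * k = ((f : ℤ) - g) * c ∨ β * (k + l) + 2 * k = ((g : ℤ) - f) * c)) :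
    f = a := by
  have hg : k + l - f = g := by omega
  have hpos : 0 < f * g := Nat.mul_pos (by omega) (by omega)
  have h2 : (1 + k + l) * k * l % (f * g) = 0 := by
    rw [← hprod]
    exact Nat.mul_mod_right _ _
  have h3 : (1 + k + l) * k * l / (f * g) = D := by
    rw [← hprod]
    exact Nat.mul_div_cancel_left _ hpos
  obtain ⟨β, c, hc, hβ⟩ := hD
  set m := c.natAbs with hm
  have hDm : D = m * m := by
    have : (D : ℤ) = ((m * m : ℕ) : ℤ) := by
      rw [hm, Int.natAbs_mul_self, hc]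
      ring
    exact_mod_cast this
  have h4 : Nat.sqrt D = m := by rw [hDm, Nat.sqrt_eq]
  have h5 : (c : ℤ) = m ∨ (c : ℤ) = -m := by
    rw [hm]
    exact Int.natAbs_eq c
  have hkl : ((k : ℤ) + l) = ((k + l : ℕ) : ℤ) := by push_cast; ring
  have hgf : (((g - f : ℕ)) : ℤ) = (g : ℤ) - f := by rw [Nat.cast_sub hle]
  have h6 : ((k + l : ℕ) : ℤ) ∣ (((g - f) * m + 2 * k : ℕ) : ℤ) ∨ ((k + l : ℕ) : ℤ) ∣ (((g - f) * m + 2 * l : ℕ) : ℤ) := by
    push_cast [hgf]
    rcases hβ with hβ | hβ <;> rcases h5 with h5 | h5 <;> rw [h5] at hβ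
    · left
      exact ⟨-β, by linear_combination hβ⟩
    · right
      exact ⟨β + 2, by linear_combination -hβ⟩
    · right
      exact ⟨β + 2, by linear_combination -hβ⟩
    · left
      exact ⟨-β, by linear_combination hβ⟩
  have h7 : ((g - f) * m + 2 * k) % (k + l) = 0 ∨ ((g - f) * m + 2 * l) % (k + l) = 0 := by
    rcases h6 with h6 | h6
    · left
      exact Nat.mod_eq_zero_of_dvd (by exact_mod_cast h6)
    · right
      exact Nat.mod_eq_zero_of_dvd (by exact_mod_cast h6)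
  unfold cand at h
  rw [hg, h2, h3, h4, ← hDm] at h
  simp only [Bool.or_eq_true, Bool.not_eq_true', Bool.or_eq_false_iff] at h
  rcases h with ((((h | h) | h) | h) | h) | h
  · exact absurd (Nat.eq_of_beq_eq_true h) hf
  · exact Nat.eq_of_beq_eq_true h
  · have := Nat.le_of_ble_eq_true h
    omega
  · exact absurd h (by decide)
  · rw [Nat.beq_refl] at h
    exact absurd h (by decide)
  · exfalso
    rcases h7 with h7 | h7
    · rw [h7] at h
      exact absurd h.1 (by decide)
    · rw [h7] at h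
      exact absurd h.2 (by decide)

section

variable {G : Type u} [Group G] [Finite G]

theorem real_of_sum {χ₁ χ₂ : IrrCharacter G} (hne : (χ₁ : G → ℂ) 1 ≠ (χ₂ : G → ℂ) 1)
    (h : ∀ g, conj ((χ₁ : G → ℂ) g + (χ₂ : G → ℂ) g) = (χ₁ : G → ℂ) g + (χ₂ : G → ℂ) g) (g : G) :
    conj ((χ₁ : G → ℂ) g) = (χ₁ : G → ℂ) g := by
  classical
  have := Fintype.ofFinite G
  have c1 : IsIrrCharacter G (fun x => conj ((χ₁ : G → ℂ) x)) := (H692.RealAct.irrConj χ₁).2
  have c2 : IsIrrCharacter G (fun x => conj ((χ₂ : G → ℂ) x)) := (H692.RealAct.irrConj χ₂).2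
  by_contra hcon
  have hn1 : (fun x => conj ((χ₁ : G → ℂ) x)) ≠ (χ₁ : G → ℂ) := fun h1 => hcon (congrFun h1 g)
  have hn2 : (fun x => conj ((χ₁ : G → ℂ) x)) ≠ (χ₂ : G → ℂ) := by
    intro h1
    apply hne
    have h2 := congrFun h1 1
    rw [← h2]
    show _ = conj ((χ₁ : G → ℂ) 1)
    rw [Cfsg.Agent.Blocks.Basic.irr_one_eq_charDegree χ₁.2, Complex.conj_natCast]
  have h3 : classInner (fun x => conj ((χ₁ : G → ℂ) x)) ((χ₁ : G → ℂ) + (χ₂ : G → ℂ)) = 0 := by
    rw [classInner_add_right, classInner_irr_ne c1 χ₁.2 hn1, classInner_irr_ne c1 χ₂.2 hn2, add_zero]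
  have h4 : ((χ₁ : G → ℂ) + (χ₂ : G → ℂ)) = (fun x => conj ((χ₁ : G → ℂ) x)) + fun x => conj ((χ₂ : G → ℂ) x) := by
    funext x
    have := h x
    rw [map_add] at this
    exact this.symm
  have hn3 : (fun x => conj ((χ₁ : G → ℂ) x)) ≠ fun x => conj ((χ₂ : G → ℂ) x) := by
    intro h1
    apply hne
    have h2 := congrFun h1 1
    exact (starRingEnd ℂ).injective h2
  rw [h4, classInner_add_right, classInner_irr_self c1, classInner_irr_ne c1 c2 hn3, add_zero] at h3
  exact one_ne_zero h3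

/-- **Real characters from rank 3.** -/
theorem real_pair {X : Type v} [MulAction G X] {R : X → X → Prop} {k l : ℕ}
    (h : RankThree.R3 G X R k l) (hodd : Odd (k + l) ∨ ¬ (k + l) / 2 ∣ Nat.card G) {a b d : ℕ} (hab : a + b = k + l)
    (hlt : a < b) (hd : k + l < 2 ^ d) (hc : rng (cand k l a) d 0 = true) : RC G a ∧ RC G b := by
  classical
  have hn := h.cardn
  have hfin : Finite X := by
    by_contra hcon
    rw [not_finite_iff_infinite] at hcon
    rw [Nat.card_eq_zero_of_infinite] at hn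
    omega
  have := Fintype.ofFinite X
  obtain ⟨χ₁, χ₂, f, g, D, hf, hg, hπ, hfg, hprod, hsq⟩ := h.frame'
  have hprod0 : (1 + k + l) * k * l ≠ 0 := by
    have := h.k0
    have := h.l0
    positivity
  have hne : f ≠ g := by
    rintro rfl
    rcases hodd with h1 | h1
    · rw [← hfg] at h1
      exact (Nat.not_odd_iff_even.2 ⟨f, rfl⟩) h1
    · apply h1
      have h2 : (k + l) / 2 = f := by omega
      have h3 : charDegree (χ₁ : G → ℂ) = f := Cfsg.Agent.Blocks.Basic.charDegree_of_eq hf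
      rw [h2, ← h3]
      exact Cfsg.Agent.Blocks.Knorr.charDegree_dvd χ₁.2
  have hf0 : f ≠ 0 := by
    rintro rfl
    rw [zero_mul, zero_mul] at hprod
    exact hprod0 hprod.symm
  have hg0 : g ≠ 0 := by
    rintro rfl
    rw [mul_zero, zero_mul] at hprod
    exact hprod0 hprod.symm
  have hsum : ∀ x, conj ((χ₁ : G → ℂ) x + (χ₂ : G → ℂ) x) = (χ₁ : G → ℂ) x + (χ₂ : G → ℂ) x := by
    intro x
    have h1 : (χ₁ : G → ℂ) x + (χ₂ : G → ℂ) x = (Nat.card (MulAction.fixedBy X x) : ℂ) - 1 := by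
      rw [hπ x]
      ring
    rw [h1, map_sub, map_one, Complex.conj_natCast]
  have hne1 : (χ₁ : G → ℂ) 1 ≠ (χ₂ : G → ℂ) 1 := by
    rw [hf, hg]
    exact_mod_cast hne
  have r1 := real_of_sum hne1 hsum
  have r2 := real_of_sum hne1.symm (fun x => by rw [add_comm]; exact hsum x)
  rcases le_total f g with hle | hle
  · have e : f = a := cand_spec (rng_spec hc f (Nat.zero_le _) (by omega)) hfg hle hf0 hprod (by
      obtain ⟨β, c, h1, h2⟩ := hsq hne
      exact ⟨β, c, h1, Or.inl h2⟩)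
    have e' : g = b := by omega
    subst e e'
    exact ⟨RC.of_conj r1 hf, RC.of_conj r2 hg⟩
  · have e : g = a := cand_spec (rng_spec hc g (Nat.zero_le _) (by omega)) (by omega) hle hg0
      (by rw [mul_comm g f]; exact hprod) (by
      obtain ⟨β, c, h1, h2⟩ := hsq hne
      exact ⟨β, c, h1, Or.inr h2⟩)
    have e' : f = b := by omega
    subst e e'
    exact ⟨RC.of_conj r2 hg, RC.of_conj r1 hf⟩

theorem real_pair_index (H : Subgroup G) {k l : ℕ} (hi : H.index = 1 + k + l)
    (ho : ∃ q₁ q₂ : G ⧸ H, (MulAction.orbit H q₁).ncard = k ∧ (MulAction.orbit H q₂).ncard = l)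
    (hk : 1 < k) (hl : 1 < l) (hkl : k ≠ l) (hodd : Odd (k + l) ∨ ¬ (k + l) / 2 ∣ Nat.card G)
    {a b d : ℕ} (hab : a + b = k + l) (hlt : a < b) (hd : k + l < 2 ^ d) (hc : rng (cand k l a) d 0 = true) :
    RC G a ∧ RC G b := by
  obtain ⟨q₁, q₂, h1, h2⟩ := ho
  obtain ⟨R, h⟩ := RankThree.R3.of_index H hi h1 h2 hk hl hkl
  exact real_pair h hodd hab hlt hd hc

end

end Cfsg.Agent.H619.R4
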